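import Cfsg.Agent.H555.PiBS.Elem
import Cfsg.Agent.Classification.DihTypeANumbers_m3
import Cfsg.Agent.QTUnique.Ru
import Cfsg.Agent.QTNorm.SporRu
import Cfsg.Agent.Transfer.PGroupNormal
import Cfsg.Agent.RuD.IdxNetW_m3
import Cfsg.Agent.KFacts.Ru.Core
import Cfsg.Agent.RuLat.Main
import Cfsg.Agent.CpAutRuFive.Cert
import Cfsg.Agent.H904.SylOne
import Cfsg.Agent.H173.PiBS.Small
import Cfsg.Agent.H443.PC.TwoMain_m3
import Cfsg.Agent.H603.SporElim
import Cfsg.Agent.H337.JankoOfIso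
import Cfsg.Agent.S1703
import Cfsg.Agent.S5566
import Cfsg.Agent.S5567
import Cfsg.Agent.S5582
import Cfsg.Agent.H861.PiS.BabyRow_m3
import Cfsg.Agent.KFacts.Co3.Sheet
import Cfsg.Agent.CoOneType.Thirteen
import Cfsg.Agent.KFacts.Th.Main
import Cfsg.Agent.H443.PC.RowChar_m3
import Cfsg.Agent.H809.PiBS.ON_mg
import Cfsg.Agent.H783.PglSpor
import Cfsg.Agent.FastGrp
import Cfsg.Agent.Prune
set_option linter.all false
prune_inst 0x7ffdfffbbff87ddfffff7e7fffbddfffb9fcffffffdffbfbfffcfbffafdf6b0efbe5fbafffe8d8ff1ef6e2b630f87b53f9ffceffef6bdc7ffffd5ff45ffbffdfffffbfa551f6b83e0ffc6ffff3f17fce7f3fffffffffffffffffffffffffffbeffffffffffff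
open scoped Cfsg.Agent.FastGrp

-- part: H663/PiBSRuG
section
/-!
# General lemmas for the row `Ru` of S3876 (helper663)

* `card_frattini`, `sieve`, `fix_mod`, `comm_of_two`;
* `Heis` : `3^(1+2)` with an automorphism of order 4 inverting the quotient by the centre modulo squares.
-/

set_option autoImplicit false

namespace Cfsg.Agent.H663.PiBSRu

open Subgroup Cfsg Cfsg.Agent.H543.PiBS

section gen

variable {S : Type*} [Group S]

/-- `|G|` divides `|A| |N|` if `A ⊔ N = ⊤`, `N` normal -/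
theorem card_dvd_of_sup {A N : Subgroup S} [hN : N.Normal] (h : A ⊔ N = ⊤) : Nat.card S ∣ Nat.card A * Nat.card N := by
  have h1 : N.index = N.relIndex A := by
    rw [← relIndex_sup_right A N, h, relIndex_top_right]
  rw [← N.card_mul_index, h1, mul_comm]
  exact Nat.mul_dvd_mul_right (relIndex_dvd_card N A) _

/-- Frattini -/
theorem card_frattini [Finite S] {p : ℕ} [Fact p.Prime] {N : Subgroup S} [hN : N.Normal] (P : Sylow p N) :
    Nat.card S ∣ Nat.card (normalizer ((map N.subtype (P : Subgroup N) : Subgroup S) : Set S)) * Nat.card N :=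
  card_dvd_of_sup (Sylow.normalizer_sup_eq_top P)

/-- two Hall subgroups have the same index -/
theorem index_eq [Finite S] {π : Set ℕ} (hD : DC π S) {H K : Subgroup S} (hH : IsPiHall π H) (hK : IsPiHall π K) :
    K.index = H.index ∧ Nat.card K = Nat.card H := by
  obtain ⟨g, rfl⟩ := hD.c H K hH hK
  have h1 := card_map_conj H g
  refine ⟨?_, h1⟩
  have h2 := H.card_mul_index
  have h3 := (H.map (MulAut.conj g).toMonoidHom).card_mul_index
  rw [h1, ← h2] at h3
  exact Nat.eq_of_mul_eq_mul_left Nat.card_pos h3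

/-- **the sieve** -/
theorem sieve [Finite S] {π : Set ℕ} (hD : DC π S) {H : Subgroup S} (hH : IsPiHall π H) {p : ℕ} [Fact p.Prime]
    (P : Sylow p S) (hN : IsPiSubgroup π (normalizer ((P : Subgroup S) : Set S))) : H.index ≡ 1 [MOD p] := by
  obtain ⟨K, hK, hle⟩ := hD.d _ hN
  rw [← (index_eq hD hH hK).1]
  exact Cfsg.Agent.Classification.TypeZ.Count.index_modEq_one (le_normalizer.trans hle) P.2 P.not_dvd_index hle

/-- fixed points of a `p`-element normalising a subgroup -/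
theorem fix_mod [Finite S] {p : ℕ} [Fact p.Prime] {x : S} (hx : x ^ p = 1) {A : Subgroup S}
    (hxA : x ∈ normalizer (A : Set S)) :
    Nat.card A ≡ Nat.card (A ⊓ centralizer ({x} : Set S) : Subgroup S) [MOD p] := by
  have hle : zpowers x ≤ normalizer (A : Set S) := zpowers_le.2 hxA
  have hp : IsPGroup p (zpowers x) := by
    rintro ⟨y, hy⟩
    obtain ⟨k, rfl⟩ := mem_zpowers_iff.1 hy
    refine ⟨1, Subtype.ext ?_⟩
    change (x ^ k) ^ p ^ 1 = 1
    rw [pow_one, ← zpow_natCast, ← zpow_mul, mul_comm, zpow_mul, zpow_natCast, hx, one_zpow]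
  let act : MulAction (zpowers x) A :=
    { smul := fun y a => ⟨y * a * (y : S)⁻¹, (mem_normalizer_iff.1 (hle y.2) _).1 a.2⟩
      one_smul := fun a => Subtype.ext (by
        change ((1 : zpowers x) : S) * a * ((1 : zpowers x) : S)⁻¹ = a
        simp only [_root_.OneMemClass.coe_one, _root_.one_mul, _root_.inv_one, _root_.mul_one])
      mul_smul := fun y z a => Subtype.ext (by
        change ((y * z : zpowers x) : S) * a * ((y * z : zpowers x) : S)⁻¹ = y * (z * a * (z : S)⁻¹) * (y : S)⁻¹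
        rw [Subgroup.coe_mul]; group) }
  have h1 := hp.card_modEq_card_fixedPoints A
  have h2 : Nat.card (MulAction.fixedPoints (zpowers x) A) =
      Nat.card (A ⊓ centralizer ({x} : Set S) : Subgroup S) := by
    refine Nat.card_congr ⟨fun a => ⟨(a : A), (a : A).2, ?_⟩, fun a => ⟨⟨a, a.2.1⟩, ?_⟩, fun a => rfl, fun a => rfl⟩
    · have h3 := congrArg Subtype.val (a.2 ⟨x, mem_zpowers x⟩)
      have h4 : x * ((a : A) : S) * x⁻¹ = (a : A) := h3
      refine mem_centralizer_singleton_iff.2 ?_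
      exact (mul_inv_eq_iff_eq_mul.1 h4).symm
    · rintro ⟨y, hy⟩
      apply Subtype.ext
      change y * (a : S) * y⁻¹ = a
      obtain ⟨k, rfl⟩ := mem_zpowers_iff.1 hy
      have h3 : Commute (a : S) x := mem_centralizer_singleton_iff.1 a.2.2
      rw [← (h3.zpow_right k).eq, mul_inv_cancel_right]
  rw [h2] at h1
  exact h1

/-- an automorphism of a group of order 3 has order at most 2 -/
theorem sq_comm {u y : S} (h3 : u ^ 3 = 1) (hy : y * u * y⁻¹ ∈ zpowers u) : y * (y * u * y⁻¹) * y⁻¹ = u := by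
  have hu3 : u * u * u = 1 := by rw [← h3]; simp only [pow_succ, pow_zero, one_mul]
  have hui : u⁻¹ = u * u := by rw [inv_eq_iff_mul_eq_one, ← mul_assoc]; exact hu3
  obtain ⟨k, hk⟩ := mem_zpowers_iff.1 hy
  -- `k` mod 3
  have hk3 : u ^ k = u ^ (k % 3) := by
    conv_lhs => rw [← Int.emod_add_mul_ediv k 3]
    rw [zpow_add, zpow_mul]
    have : u ^ (3 : ℤ) = 1 := by exact_mod_cast h3
    rw [this, one_zpow, mul_one]
  have hr : k % 3 = 0 ∨ k % 3 = 1 ∨ k % 3 = 2 := by omega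
  rcases hr with h | h | h
  · rw [h, zpow_zero] at hk3
    rw [hk3] at hk
    have h4 : u = 1 := by
      calc u = y⁻¹ * (y * u * y⁻¹) * y := by group
        _ = 1 := by rw [← hk]; group
    rw [← hk, h4]; group
  · rw [h, zpow_one] at hk3
    rw [hk3] at hk
    rw [← hk, ← hk]
  · rw [h] at hk3
    have h5 : u ^ (2 : ℤ) = u⁻¹ := by
      rw [hui]; exact zpow_two u
    rw [hk3, h5] at hk
    calc y * (y * u * y⁻¹) * y⁻¹ = y * u⁻¹ * y⁻¹ := by rw [← hk]
      _ = (y * u * y⁻¹)⁻¹ := by group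
      _ = u := by rw [← hk, inv_inv]

end gen

section heis

variable {S : Type*} [Group S]

/-- relations of `3^(1+2) : 4` -/
structure Hs (a b c g : S) : Prop where
  a3 : a ^ 3 = 1
  c3 : c ^ 3 = 1
  c1 : c ≠ 1
  ga : g * a * g⁻¹ = b
  gb : g * b * g⁻¹ = a⁻¹
  ab : a * b = c * (b * a)
  ac : a * c = c * a
  bc : b * c = c * b

namespace Hs

variable {a b c g : S} (H : Hs a b c g)
include H

/-- `⟨a, b⟩` -/
theorem c_mem : c ∈ _root_.Subgroup.closure ({a, b} : Set S) := by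
  have ha : a ∈ _root_.Subgroup.closure ({a, b} : Set S) := _root_.Subgroup.subset_closure (by simp)
  have hb : b ∈ _root_.Subgroup.closure ({a, b} : Set S) := _root_.Subgroup.subset_closure (by simp)
  have h1 : c = a * b * (b * a)⁻¹ := by rw [H.ab, mul_assoc c, mul_inv_cancel, mul_one]
  rw [h1]
  exact mul_mem (mul_mem ha hb) (inv_mem (mul_mem hb ha))

theorem cent {u : S} (hu : u ∈ _root_.Subgroup.closure ({a, b} : Set S)) : Commute u c := by
  have h1 : _root_.Subgroup.closure ({a, b} : Set S) ≤ centralizer ({c} : Set S) := by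
    rw [closure_le]
    rintro x (rfl | rfl)
    · exact mem_centralizer_singleton_iff.2 H.ac
    · exact mem_centralizer_singleton_iff.2 H.bc
  exact mem_centralizer_singleton_iff.1 (h1 hu)

theorem b3 : b ^ 3 = 1 := by
  rw [← H.ga, conj_pow, H.a3, mul_one, mul_inv_cancel]

/-- commutators lie in `⟨c⟩` -/
theorem comm {u v : S} (hu : u ∈ _root_.Subgroup.closure ({a, b} : Set S)) (hv : v ∈ closure ({a, b} : Set S)) :
    ∃ m : ℤ, u * v = c ^ m * (v * u) := by
  have key : ∀ s ∈ ({a, b} : Set S), ∀ v ∈ _root_.Subgroup.closure ({a, b} : Set S), ∃ m : ℤ, s * v = c ^ m * (v * s) := by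
    intro s hs v hv
    have hsc : Commute s c := H.cent (_root_.Subgroup.subset_closure hs)
    induction hv using closure_induction with
    | mem x hx =>
      rcases hs with rfl | rfl <;> rcases hx with rfl | rfl
      · exact ⟨0, by simp⟩
      · exact ⟨1, by rw [zpow_one]; exact H.ab⟩
      · exact ⟨-1, by rw [H.ab, zpow_neg, zpow_one, inv_mul_cancel_left]⟩
      · exact ⟨0, by simp⟩
    | one => exact ⟨0, by simp⟩
    | mul x y hx hy h1 h2 =>
      obtain ⟨m, hm⟩ := h1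
      obtain ⟨n, hn⟩ := h2
      refine ⟨m + n, ?_⟩
      have h3 : Commute x (c ^ n) := (H.cent hx).zpow_right n
      calc s * (x * y) = (s * x) * y := by group
        _ = c ^ m * x * (s * y) := by rw [hm]; group
        _ = c ^ m * (x * c ^ n) * y * s := by rw [hn]; group
        _ = c ^ (m + n) * (x * y * s) := by rw [h3.eq, zpow_add]; group
    | inv x hx h1 =>
      obtain ⟨m, hm⟩ := h1
      refine ⟨-m, ?_⟩
      have h3 : Commute x⁻¹ (c ^ (-m)) := (H.cent (inv_mem hx)).zpow_right _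
      have h4 : Commute s (c ^ (-m)) := hsc.zpow_right _
      calc s * x⁻¹ = x⁻¹ * (x * s) * x⁻¹ := by rw [inv_mul_cancel_left]
        _ = x⁻¹ * (c ^ (-m) * (s * x)) * x⁻¹ := by rw [hm, zpow_neg, inv_mul_cancel_left (c ^ m)]
        _ = (x⁻¹ * c ^ (-m)) * s := by group
        _ = c ^ (-m) * (x⁻¹ * s) := by rw [h3.eq]; group
  induction hu using closure_induction with
  | mem x hx => exact key x hx v hv
  | one => exact ⟨0, by simp⟩
  | mul x y hx hy h1 h2 =>
    obtain ⟨m, hm⟩ := h1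
    obtain ⟨n, hn⟩ := h2
    refine ⟨m + n, ?_⟩
    have h3 : Commute x (c ^ n) := (H.cent hx).zpow_right n
    calc (x * y) * v = x * (y * v) := by group
      _ = (x * c ^ n) * v * y := by rw [hn]; group
      _ = c ^ n * (x * v) * y := by rw [h3.eq]; group
      _ = c ^ (m + n) * (v * (x * y)) := by rw [hm, add_comm, zpow_add]; group
  | inv x hx h1 =>
    obtain ⟨m, hm⟩ := h1
    refine ⟨-m, ?_⟩
    have h3 : Commute x⁻¹ (c ^ (-m)) := (H.cent (inv_mem hx)).zpow_right _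
    calc x⁻¹ * v = x⁻¹ * (v * x) * x⁻¹ := by group
      _ = x⁻¹ * (c ^ (-m) * (x * v)) * x⁻¹ := by rw [hm, zpow_neg, inv_mul_cancel_left]
      _ = (x⁻¹ * c ^ (-m)) * x * v * x⁻¹ := by group
      _ = c ^ (-m) * (v * x⁻¹) := by rw [h3.eq]; group

/-- `g²` inverts `⟨a, b⟩` modulo `⟨c⟩` -/
theorem theta {u : S} (hu : u ∈ _root_.Subgroup.closure ({a, b} : Set S)) : ∃ k : ℤ, g * (g * u * g⁻¹) * g⁻¹ = c ^ k * u⁻¹ := by
  induction hu using closure_induction with
  | mem x hx =>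
    refine ⟨0, ?_⟩
    rw [zpow_zero, one_mul]
    rcases hx with rfl | rfl
    · rw [H.ga, H.gb]
    · rw [H.gb]
      have h1 := congrArg (·⁻¹) H.ga
      simp only [mul_inv_rev, inv_inv] at h1
      rw [← h1, mul_assoc]
  | one => exact ⟨0, by simp⟩
  | mul x y hx hy h1 h2 =>
    obtain ⟨m, hm⟩ := h1
    obtain ⟨n, hn⟩ := h2
    obtain ⟨l, hl⟩ := H.comm (inv_mem hx) (inv_mem hy)
    refine ⟨m + n + l, ?_⟩
    have h3 : Commute x⁻¹ (c ^ n) := (H.cent (inv_mem hx)).zpow_right n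
    calc g * (g * (x * y) * g⁻¹) * g⁻¹ = (g * (g * x * g⁻¹) * g⁻¹) * (g * (g * y * g⁻¹) * g⁻¹) := by group
      _ = c ^ m * (x⁻¹ * c ^ n) * y⁻¹ := by rw [hm, hn]; group
      _ = c ^ m * c ^ n * (x⁻¹ * y⁻¹) := by rw [h3.eq]; group
      _ = c ^ (m + n + l) * (x * y)⁻¹ := by rw [hl, zpow_add, zpow_add]; group
  | inv x hx h1 =>
    obtain ⟨m, hm⟩ := h1
    refine ⟨-m, ?_⟩
    have h3 : Commute x (c ^ (-m)) := (H.cent hx).zpow_right _
    calc g * (g * x⁻¹ * g⁻¹) * g⁻¹ = (g * (g * x * g⁻¹) * g⁻¹)⁻¹ := by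
          simp only [mul_inv_rev, inv_inv, mul_assoc]
      _ = x * c ^ (-m) := by rw [hm]; group
      _ = c ^ (-m) * x⁻¹⁻¹ := by rw [h3.eq, inv_inv]

theorem g_norm {u : S} (hu : u ∈ _root_.Subgroup.closure ({a, b} : Set S)) : g * u * g⁻¹ ∈ closure ({a, b} : Set S) := by
  have ha : a ∈ _root_.Subgroup.closure ({a, b} : Set S) := _root_.Subgroup.subset_closure (by simp)
  have hb : b ∈ _root_.Subgroup.closure ({a, b} : Set S) := _root_.Subgroup.subset_closure (by simp)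
  have h1 : closure ({a, b} : Set S) ≤ (closure ({a, b} : Set S)).comap (MulAut.conj g).toMonoidHom := by
    rw [closure_le]
    rintro x (hx | hx)
    · rw [hx]
      change g * a * g⁻¹ ∈ _root_.Subgroup.closure ({a, b} : Set S)
      rw [H.ga]; exact hb
    · rw [Set.mem_singleton_iff.1 hx]
      change g * b * g⁻¹ ∈ closure ({a, b} : Set S)
      rw [H.gb]; exact inv_mem ha
  exact h1 hu

/-- `⟨a, b⟩` is a 3-group -/
theorem isPGroup [Finite S] : IsPGroup 3 (closure ({a, b} : Set S)) := by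
  have : Fact (Nat.Prime 3) := ⟨Nat.prime_three⟩
  have hz : ∀ x : S, x ^ 3 = 1 → IsPGroup 3 (zpowers x) := by
    intro x hx
    have h1 := (Nat.dvd_prime Nat.prime_three).mp (orderOf_dvd_of_pow_eq_one hx)
    rcases h1 with h1 | h1
    · refine IsPGroup.of_card (n := 0) ?_
      rw [Nat.card_zpowers, h1, pow_zero]
    · refine IsPGroup.of_card (n := 1) ?_
      rw [Nat.card_zpowers, h1, pow_one]
  have hA : IsPGroup 3 ((zpowers b ⊔ zpowers c : Subgroup S)) := by
    refine (hz b H.b3).to_sup_of_normal_right' (hz c H.c3) ?_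
    rw [zpowers_le]
    refine mem_normalizer_fintype ?_
    intro x hx
    obtain ⟨n, rfl⟩ := mem_zpowers_iff.1 hx
    have h1 : Commute b (c ^ n) := Commute.zpow_right H.bc n
    rw [h1.eq, mul_inv_cancel_right]
    exact hx
  have hP : IsPGroup 3 ((zpowers a ⊔ (zpowers b ⊔ zpowers c) : Subgroup S)) := by
    refine (hz a H.a3).to_sup_of_normal_right' hA ?_
    rw [zpowers_le]
    refine mem_normalizer_fintype ?_
    have hle : (zpowers b ⊔ zpowers c : Subgroup S) ≤ (zpowers b ⊔ zpowers c : Subgroup S).comap (MulAut.conj a).toMonoidHom := by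
      rw [sup_le_iff, zpowers_le, zpowers_le]
      constructor
      · change a * b * a⁻¹ ∈ (zpowers b ⊔ zpowers c : Subgroup S)
        have h1 : a * b * a⁻¹ = c * b := by rw [H.ab, mul_assoc c, mul_assoc b, mul_inv_cancel, mul_one]
        rw [h1]
        exact mul_mem (mem_sup_right (mem_zpowers c)) (mem_sup_left (mem_zpowers b))
      · change a * c * a⁻¹ ∈ (zpowers b ⊔ zpowers c : Subgroup S)
        rw [H.ac, mul_inv_cancel_right]
        exact mem_sup_right (mem_zpowers c)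
    intro n hn
    exact hle hn
  refine hP.to_le ?_
  rw [closure_le]
  rintro x (rfl | rfl)
  · exact mem_sup_left (mem_zpowers _)
  · exact mem_sup_right (mem_sup_left (mem_zpowers _))

/-- `|⟨a, b⟩| = 27` -/
theorem card_eq [Finite S] (h81 : ¬ 3 ^ 4 ∣ Nat.card S) : Nat.card (closure ({a, b} : Set S)) = 27 := by
  have : Fact (Nat.Prime 3) := ⟨Nat.prime_three⟩
  obtain ⟨n, hn⟩ := IsPGroup.iff_card.1 H.isPGroup
  have ha : a ∈ _root_.Subgroup.closure ({a, b} : Set S) := _root_.Subgroup.subset_closure (by simp)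
  have hb : b ∈ _root_.Subgroup.closure ({a, b} : Set S) := _root_.Subgroup.subset_closure (by simp)
  have hne : a * b ≠ b * a := fun h => H.c1 (by
    have h1 := H.ab
    rw [h] at h1
    exact right_eq_mul.1 h1)
  have hn4 : n < 4 := by
    by_contra hcon
    apply h81
    exact (pow_dvd_pow 3 (not_lt.1 hcon)).trans (hn ▸ card_subgroup_dvd_card _)
  have hnc : ∀ hcomm : ∀ x y : closure ({a, b} : Set S), x * y = y * x, False := fun hcomm =>
    hne (congrArg Subtype.val (hcomm ⟨a, ha⟩ ⟨b, hb⟩))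
  interval_cases n
  · exfalso
    rw [pow_zero] at hn
    have := (Nat.card_eq_one_iff_unique.1 hn).1
    exact hnc fun x y => Subsingleton.elim _ _
  · exfalso
    rw [pow_one] at hn
    have hcyc : IsCyclic (closure ({a, b} : Set S)) := isCyclic_of_prime_card hn
    exact hnc fun x y => (IsCyclic.isMulCommutative (α := closure ({a, b} : Set S))).is_comm.comm x y
  · exfalso
    exact hnc fun x y => (IsPGroup.isMulCommutative_of_card_eq_prime_sq hn).is_comm.comm x y
  · rw [hn]; norm_num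

end Hs

end heis

end Cfsg.Agent.H663.PiBSRu
end

-- part: H663/PiBSRuT
section
/-!
# The 2-local subgroups of the Rudvalis group (helper663, row `Ru` of S3876)

`two_local` : a Sylow 2-subgroup `T = N(T)`, `Y = N(Z) ≥ T` of order `2^14 · 21`, two subgroups `P1 = Y ∩ C(z)`, `P2` of `Y`
containing `T`, `{2, 3}`-groups, `P1` of order `2^14 · 3`, `P2 ≰ P1`; `C(z)` of order `2^14 · 15`; `⟨C(z), Y⟩ = S`.
-/

set_option autoImplicit false
set_option maxRecDepth 100000

namespace Cfsg.Agent.H663.PiBSRu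

open Subgroup

section seven

variable {S : Type*} [Group S]

/-- an automorphism of order 7 of an elementary group of order 8 does not normalise a subgroup of order 4 -/
theorem cent_of_seven [Finite S] {Z Z2 : Subgroup S} (hle : Z2 ≤ Z) (hZ : Nat.card Z = 8) (hZ2 : Nat.card Z2 = 4)
    {e : S} (h7 : e ^ 7 = 1) (heZ : ∀ x ∈ Z, e * x * e⁻¹ ∈ Z) (heZ2 : ∀ x ∈ Z2, e⁻¹ * x * e ∈ Z2) :
    ∀ x ∈ Z, e * x = x * e := by
  classical
  have key : ∀ x ∈ Z, x ∉ Z2 → e * x = x * e := by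
    intro x hx hx2
    have hmem : ∀ n : ℕ, e ^ n * x * (e ^ n)⁻¹ ∈ Z ∧ e ^ n * x * (e ^ n)⁻¹ ∉ Z2 := by
      intro n
      induction n with
      | zero => simpa using ⟨hx, hx2⟩
      | succ n ih =>
        have e1 : e ^ (n + 1) * x * (e ^ (n + 1))⁻¹ = e * (e ^ n * x * (e ^ n)⁻¹) * e⁻¹ := by
          rw [pow_succ']; group
        rw [e1]
        refine ⟨heZ _ ih.1, fun h => ih.2 ?_⟩
        have h1 := heZ2 _ h
        have e2 : e⁻¹ * (e * (e ^ n * x * (e ^ n)⁻¹) * e⁻¹) * e = e ^ n * x * (e ^ n)⁻¹ := by group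
        rwa [e2] at h1
    have hcard : (((Z : Set S) \ (Z2 : Set S)).ncard) = 4 := by
      rw [Set.ncard_sdiff (by exact hle)]
      have a1 : (Z : Set S).ncard = 8 := hZ
      have a2 : (Z2 : Set S).ncard = 4 := hZ2
      rw [a1, a2]
    obtain ⟨i, hi, j, hj, hij, h⟩ := Finset.exists_ne_map_eq_of_card_lt_of_maps_to
      (s := Finset.range 5) (t := ((Z : Set S) \ (Z2 : Set S)).toFinite.toFinset)
      (f := fun n => e ^ n * x * (e ^ n)⁻¹)
      (by rw [← Set.ncard_eq_toFinset_card _ _, hcard, Finset.card_range]; norm_num)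
      (fun n _ => by
        rw [Finset.mem_coe, Set.Finite.mem_toFinset]
        exact hmem n)
    wlog hlt : i < j generalizing i j with H
    · exact H j hj i hi (Ne.symm hij) h.symm (by omega)
    rw [Finset.mem_range] at hi hj
    -- e ^ (j - i) commutes with x
    have h1 : Commute (e ^ (j - i)) x := by
      have e3 : e ^ j = e ^ i * e ^ (j - i) := by rw [← pow_add]; congr 1; omega
      have h' : e ^ i * x * (e ^ i)⁻¹ = e ^ j * x * (e ^ j)⁻¹ := h
      rw [e3] at h'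
      have h2 : x = e ^ (j - i) * x * (e ^ (j - i))⁻¹ := by
        calc x = (e ^ i)⁻¹ * (e ^ i * x * (e ^ i)⁻¹) * e ^ i := by group
          _ = (e ^ i)⁻¹ * (e ^ i * e ^ (j - i) * x * (e ^ i * e ^ (j - i))⁻¹) * e ^ i := by rw [h']
          _ = _ := by group
      show e ^ (j - i) * x = x * e ^ (j - i)
      calc e ^ (j - i) * x = (e ^ (j - i) * x * (e ^ (j - i))⁻¹) * e ^ (j - i) := by group
        _ = _ := by rw [← h2]
    -- a multiple of j - i is 1 mod 7
    have hr : ∃ m : ℕ, (j - i) * m % 7 = 1 := by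
      have hd : 1 ≤ j - i ∧ j - i ≤ 4 := by omega
      generalize j - i = d at hd
      obtain ⟨h1, h2⟩ := hd
      interval_cases d
      · exact ⟨1, rfl⟩
      · exact ⟨4, rfl⟩
      · exact ⟨5, rfl⟩
      · exact ⟨2, rfl⟩
    obtain ⟨m, hm⟩ := hr
    have h3 : e ^ ((j - i) * m) = e := by
      rw [← Nat.div_add_mod ((j - i) * m) 7, hm, pow_add, pow_mul, h7, one_pow, one_mul, pow_one]
    have h4 : Commute (e ^ ((j - i) * m)) x := by
      rw [pow_mul]
      exact h1.pow_left m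
    rw [h3] at h4
    exact h4.eq
  intro x hx
  by_cases hx2 : x ∈ Z2
  · obtain ⟨v, hv, hv2⟩ : ∃ v ∈ Z, v ∉ Z2 := by
      by_contra hcon
      push Not at hcon
      have h1 := Subgroup.card_le_of_le (show Z ≤ Z2 from hcon)
      omega
    have h1 := key v hv hv2
    have h2 := key (x * v) (mul_mem hx hv) (fun h => hv2 (by
      have := mul_mem (inv_mem hx2) h
      rwa [inv_mul_cancel_left] at this))
    have h3 : e * x * v = x * e * v := by
      rw [mul_assoc, h2, mul_assoc, ← h1, ← mul_assoc]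
    exact mul_right_cancel h3
  · exact key x hx hx2

end seven

section core

open Cfsg Cfsg.Agent.RuB Cfsg.Agent.RuB.Core Cfsg.Agent.RuB.NormZ Cfsg.Agent.RuB.NormQ Cfsg.Agent.RuB.GLThree
open Cfsg.Agent.KFacts.Ru
open Cfsg.Agent.Ru127.Form (nor mem_nor mem_cj LocalData cj conj_mem_of_mem_nor)

/-- for every `b` a code of a map `1 ↦ b ↦ 1 + b` -/
def chkCyc : Bool := (List.range 8).all fun b => Nat.ble b 1 ||
  (List.range 512).any fun p => good p && (ap p 1 == b) && (ap p b == Nat.xor b 1)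

theorem chkCyc_true : chkCyc = true := by decide +kernel

variable {G : Type*} [Group G]

theorem exists_cyc [Finite G] (C : Core G) {b : K8} (hb0 : b ≠ 0) (hb1 : b ≠ 1) :
    ∃ g ∈ nor (Zs C), g * C.z 1 * g⁻¹ = C.z b ∧ g * C.z b * g⁻¹ = C.z (1 + b) := by
  obtain ⟨K, hν, hμ, g0, hg0', ht⟩ := QSyl.exists_coord_norm C
  have hg0 := Local.mem_nor_of_norm hg0'
  have hC := Local.cent_le K hμ
  have hμ0 : K.μ ≠ 0 := by rw [hμ]; decide +kernel
  have hS : ∀ p, p < 512 → good p = true → ∃ g, ∃ r, Ind C g r ∧ cod r = p := by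
    obtain ⟨r0, hr0⟩ := exists_ind hg0
    refine all_of (S := fun p => ∃ g, ∃ r, Ind C g r ∧ cod r = p) ?_ ?_ (cod_lt r0) ⟨g0, r0, hr0, rfl⟩
      (good_cod hr0.add (fun x hx => hr0.zero hx)) (not_semi K hμ0 hr0 (nor_QQ hC hr0) ht)
    · rintro _ _ ⟨g, r, hg, rfl⟩ ⟨h, s, hh, rfl⟩
      exact ⟨g * h, r ∘ s, hg.comp hh, cod_comp hg.add⟩
    · intro m hm
      obtain ⟨c, hc, rfl⟩ := mem_ms m hm
      let k : K8ˣ := Units.mk0 (c ^ 2) (pow_ne_zero _ hc)
      have hk : (k : K8) ^ 4 = c := by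
        show (c ^ 2) ^ 4 = c
        rw [← pow_mul]; exact K8.pow_eight c
      refine ⟨C.dk k, _, ind_dk k, ?_⟩
      rw [hk]
  have h1 := chkCyc_true
  unfold chkCyc at h1
  rw [List.all_eq_true] at h1
  have h2 := h1 b.val.val (List.mem_range.2 (val_lt b))
  rw [Bool.or_eq_true, List.any_eq_true] at h2
  have hv0 : b.val.val ≠ 0 := fun h => hb0 (val_inj (by rw [h]; decide +kernel))
  have hv1 : b.val.val ≠ 1 := fun h => hb1 (val_inj (by rw [h]; decide +kernel))
  rcases h2 with h2 | ⟨p, hp, h2⟩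
  · have := Nat.le_of_ble_eq_true h2
    omega
  rw [Bool.and_eq_true, Bool.and_eq_true, beq_iff_eq, beq_iff_eq] at h2
  obtain ⟨⟨h3, h4⟩, h5⟩ := h2
  obtain ⟨g, r, hg, hr⟩ := hS p (List.mem_range.1 hp) h3
  refine ⟨g, mem_nor_of_ind hg, ?_, ?_⟩
  · rw [hg]
    congr 1
    apply val_inj
    rw [ap_cod hg.add, hr, ← h4]
    rfl
  · rw [hg]
    congr 1
    apply val_inj
    rw [ap_cod hg.add, hr, h5, add_val]
    exact Nat.xor_comm _ _

/-- `C(z)` and `N(Z)` generate `Ru` -/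
theorem gen_two {G : Type*} [Group G] [Finite G] (h : Cfsg.Spor.IsoRu G) : ∃ C : Core G, ∀ X : Subgroup G,
    centralizer ({C.z 1} : Set G) ≤ X → nor (Zs C) ≤ X → X = ⊤ := by
  obtain ⟨t, s, w, f, d, y, hL, hy, hw⟩ := QTUnique.Ru.exists_lets' h
  obtain ⟨C, -, -, -, hs, -, hf⟩ := hL.exists_core
  have hzs : s * s = C.z 1 := by
    rw [← hs, C.U_sq]
    congr 1
  refine ⟨C, fun Y0 hCY hN => ?_⟩
  have hC : ∀ g : G, g * (s * s) = s * s * g → g ∈ Y0 := by
    intro g hg
    rw [hzs] at hg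
    exact hCY (mem_centralizer_singleton_iff.2 hg)
  have hsY : s ∈ Y0 := hC s (mul_assoc s s s).symm
  have hfY : f ∈ Y0 := by rw [← hf]; exact hN (dk_mem_nor _)
  have hyY : y ∈ Y0 := hC y hy
  have htY : t ∈ Y0 := hC t (hL.tL (mul_mem (_root_.Subgroup.subset_closure (by simp)) (_root_.Subgroup.subset_closure (by simp))))
  have hdY : d ∈ Y0 := by
    apply hC
    have h1 : d * s = s * d := mul_inv_eq_iff_eq_mul.1 hL.ds
    rw [← mul_assoc, h1, mul_assoc, h1, mul_assoc]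
  have hyi : y⁻¹ = y := inv_eq_of_mul_eq_one_right hL.rel.y2
  have hwY : w ∈ Y0 := by
    set g := f * y * s * f * y * f * y * f * f with hg
    have hgi : f⁻¹ * f⁻¹ * y * f⁻¹ * y * f⁻¹ * s⁻¹ * y * f⁻¹ = g⁻¹ := by
      rw [hg]
      simp only [mul_inv_rev, hyi, mul_assoc]
    rw [hgi] at hw
    have hgY : g ∈ Y0 := by
      rw [hg]
      exact mul_mem (mul_mem (mul_mem (mul_mem (mul_mem (mul_mem (mul_mem (mul_mem hfY hyY) hsY) hfY) hyY) hfY) hyY)
        hfY) hfY
    have h1 : g⁻¹ * w * g ∈ Y0 := by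
      apply hC
      calc g⁻¹ * w * g * (s * s) = g⁻¹ * (w * (g * (s * s) * g⁻¹)) * g := by group
        _ = g⁻¹ * (g * (s * s) * g⁻¹ * w) * g := by rw [hw]
        _ = _ := by group
    have h2 : w = g * (g⁻¹ * w * g) * g⁻¹ := by group
    rw [h2]
    exact mul_mem (mul_mem hgY h1) (inv_mem hgY)
  rw [eq_top_iff, ← hL.gen, closure_le]
  rintro x (rfl | rfl | rfl | rfl | rfl | rfl)
  · exact htY
  · exact hsY
  · exact hwY
  · exact hfY
  · exact hdY
  · exact hyY

/-- **the 2-local data** -/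
theorem two_local {G : Type*} [Group G] [Finite G] (h : Cfsg.Spor.IsoRu G) :
    ∃ (T : Sylow 2 G) (Y P1 P2 Cz : Subgroup G),
      normalizer ((T : Subgroup G) : Set G) ≤ T ∧ Nat.card T = 2 ^ 14 ∧
      (T : Subgroup G) ≤ P1 ∧ (T : Subgroup G) ≤ P2 ∧ P1 ≤ Y ∧ P2 ≤ Y ∧ ¬ P2 ≤ P1 ∧ Nat.card P1 = 2 ^ 14 * 3 ∧
      ¬ 7 ∣ Nat.card P2 ∧ Nat.card Y = 2 ^ 14 * 21 ∧ (T : Subgroup G) ≤ Cz ∧ Nat.card Cz = 245760 ∧
      ∀ X : Subgroup G, Cz ≤ X → Y ≤ X → X = ⊤ := by
  have : Fact (Nat.Prime 2) := ⟨Nat.prime_two⟩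
  obtain ⟨C, hgen⟩ := gen_two h
  obtain ⟨K, hν, hμ, L, hcz⟩ := Cfsg.Agent.Ru127.Sg.exists_localData C
  have hz1 : C.z 1 ≠ 1 := fun h => one_ne_zero (C.z_eq_one h)
  obtain ⟨P, hPc, hPz, hPQ, hPn, -⟩ := InvC.exists_sylow C
  have hself := Cfsg.Agent.QTNorm.RuRow.selfN_ru h P
  have hP1 : Nat.card (nor (Zs C) ⊓ centralizer {C.z 1} : Subgroup G) = 2 ^ 14 * 3 :=
    Cfsg.Agent.Ru127.Count.card_nor_cent L hz1 Local.Zs_mem_ZZ (z_mem_Zs 1)
  have hY : Nat.card (nor (Zs C)) = 2 ^ 14 * 21 := L.norm_card _ Local.Zs_mem_ZZ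
  have hZ8 : Nat.card (Zs C) = 8 := Cfsg.Agent.Ru127.Basic.card_mem L Local.Zs_mem_ZZ
  have hCz : Nat.card (centralizer ({C.z 1} : Set G)) = 245760 := Cfsg.Agent.Ru127.Sg.card_cent C
  -- the subgroup of order 4
  have hZP : Zs C ≤ P := by
    rintro _ ⟨b, rfl⟩
    exact hPQ _ (z_mem_QQ b)
  have hz2 : Nat.card (zpowers (C.z 1)) = 2 := by
    rw [Nat.card_zpowers]
    exact orderOf_eq_prime (by rw [pow_two]; exact C.z_sq 1) hz1
  have hzZ : zpowers (C.z 1) ≤ Zs C := zpowers_le.2 (z_mem_Zs 1)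
  have hcard : ∀ A : Subgroup G, A ≤ P → Nat.card (A.subgroupOf (P : Subgroup G)) = Nat.card A := fun A hA =>
    Nat.card_congr (subgroupOfEquivOfLe hA).toEquiv
  obtain ⟨M, hMn, hNM, hMK, hM4⟩ := Cfsg.Agent.Transfer.PGroupNormal.exists_normal_between (p := 2) (k := 2)
    (G := ↥(P : Subgroup G)) P.2 (N := (zpowers (C.z 1)).subgroupOf P) (K := (Zs C).subgroupOf P)
    ⟨by
      intro n hn g
      rw [mem_subgroupOf] at hn ⊢
      have h1 : ((g : G) * n * (g : G)⁻¹) = n := by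
        obtain ⟨k, hk⟩ := mem_zpowers_iff.1 hn
        rw [← hk]
        have h2 : Commute (g : G) (C.z 1) := hPz g g.2
        rw [(h2.zpow_right k).eq, mul_inv_cancel_right]
      change ((g : G) * n * (g : G)⁻¹) ∈ _
      rw [h1]
      exact hn⟩
    ⟨by
      intro n hn g
      rw [mem_subgroupOf] at hn ⊢
      exact conj_mem_of_mem_nor (hPn g g.2) hn⟩
    (fun x hx => by rw [mem_subgroupOf] at hx ⊢; exact hzZ hx)
    (by rw [hcard _ (hzZ.trans hZP), hz2]; norm_num) (by rw [hcard _ hZP, hZ8]; norm_num)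
  obtain ⟨Z2, hZ2⟩ : ∃ Z2 : Subgroup G, Z2 = M.map (P : Subgroup G).subtype := ⟨_, rfl⟩
  have hZ2c : Nat.card Z2 = 4 := by
    rw [hZ2, ← Nat.card_congr (M.equivMapOfInjective _ (subtype_injective _)).toEquiv, hM4]
    norm_num
  have hZ2le : Z2 ≤ Zs C := by
    rw [hZ2]
    rintro _ ⟨x, hx, rfl⟩
    exact hMK hx
  have hzZ2 : C.z 1 ∈ Z2 := by
    rw [hZ2]
    exact ⟨⟨C.z 1, hZP (z_mem_Zs 1)⟩, hNM (by rw [mem_subgroupOf]; exact mem_zpowers _), rfl⟩
  have hPZ2 : ∀ x ∈ P, ∀ v ∈ Z2, x * v * x⁻¹ ∈ Z2 := by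
    rw [hZ2]
    rintro x hx _ ⟨v, hv, rfl⟩
    exact ⟨_, hMn.conj_mem v hv ⟨x, hx⟩, rfl⟩
  have hmemnor : ∀ g : G, (∀ v ∈ Z2, g * v * g⁻¹ ∈ Z2) → g ∈ nor Z2 := by
    intro g hg
    rw [mem_nor]
    apply eq_of_le_of_card_ge
    · intro x hx
      rw [mem_cj] at hx
      have h1 := hg _ hx
      have e1 : g * (g⁻¹ * x * g) * g⁻¹ = x := by group
      rwa [e1] at h1
    · rw [Cfsg.Agent.Ru127.Form.cj, card_map_of_injective (MulAut.conj g).injective]
  obtain ⟨b, hbZ, hb0, hb1⟩ : ∃ b : K8, C.z b ∈ Z2 ∧ b ≠ 0 ∧ b ≠ 1 := by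
    by_contra hcon
    push Not at hcon
    have h1 : Z2 ≤ zpowers (C.z 1) := by
      intro v hv
      obtain ⟨c, rfl⟩ := hZ2le hv
      by_cases hc : c = 0
      · rw [hc, C.z_zero]; exact one_mem _
      · rw [hcon c hv hc]; exact mem_zpowers _
    have h2 := card_le_of_le h1
    omega
  obtain ⟨g, hgn, hg1, hg2⟩ := exists_cyc C hb0 hb1
  have hgen2 : _root_.Subgroup.closure ({C.z 1, C.z b} : Set G) = Z2 := by
    apply eq_of_le_of_card_ge
    · rw [closure_le]
      rintro x (rfl | rfl)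
      · exact hzZ2
      · exact hbZ
    · have h1 : ({1, C.z 1, C.z b} : Set G) ⊆ closure ({C.z 1, C.z b} : Set G) := by
        rintro x (rfl | rfl | rfl)
        · exact one_mem _
        · exact _root_.Subgroup.subset_closure (by simp)
        · exact _root_.Subgroup.subset_closure (by simp)
      have h2 := Set.ncard_le_ncard h1 (Set.toFinite _)
      have h3 : ({1, C.z 1, C.z b} : Set G).ncard = 3 := by
        rw [Set.ncard_eq_three]
        refine ⟨1, C.z 1, C.z b, hz1.symm, fun h => hb0 (C.z_eq_one h.symm), fun h => hb1 (C.z_inj h).symm, rfl⟩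
      have h4 : _root_.Subgroup.closure ({C.z 1, C.z b} : Set G) ≤ Z2 := by
        rw [closure_le]
        rintro x (rfl | rfl)
        · exact hzZ2
        · exact hbZ
      have h5 := card_dvd_of_le h4
      rw [hZ2c] at h5 ⊢
      have h6 : 3 ≤ Nat.card (closure ({C.z 1, C.z b} : Set G)) := by
        rw [h3] at h2
        exact h2
      have h7 := Nat.le_of_dvd (by norm_num) h5
      interval_cases hcc : Nat.card (closure ({C.z 1, C.z b} : Set G))
      · norm_num at h5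
      · norm_num
  have hgZ2 : g ∈ nor Z2 := by
    apply hmemnor
    intro v hv
    rw [← hgen2] at hv ⊢
    induction hv using closure_induction with
    | mem x hx =>
      rcases hx with rfl | rfl
      · rw [hg1]; exact _root_.Subgroup.subset_closure (by simp)
      · rw [hg2, C.z_add]
        exact mul_mem (_root_.Subgroup.subset_closure (by simp)) (_root_.Subgroup.subset_closure (by simp))
    | one => rw [mul_one, mul_inv_cancel]; exact one_mem _
    | mul x y _ _ hx hy =>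
      have e1 : g * (x * y) * g⁻¹ = (g * x * g⁻¹) * (g * y * g⁻¹) := by group
      rw [e1]; exact mul_mem hx hy
    | inv x _ hx =>
      have e1 : g * x⁻¹ * g⁻¹ = (g * x * g⁻¹)⁻¹ := by group
      rw [e1]; exact inv_mem hx
  refine ⟨P, nor (Zs C), nor (Zs C) ⊓ centralizer {C.z 1}, nor (Zs C) ⊓ nor Z2, centralizer {C.z 1}, hself, hPc,
    ?_, ?_, inf_le_left, inf_le_left, ?_, hP1, ?_, hY, ?_, hCz, hgen⟩
  · intro x hx
    exact ⟨hPn x hx, mem_centralizer_singleton_iff.2 (hPz x hx)⟩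
  · intro x hx
    exact ⟨hPn x hx, hmemnor x (hPZ2 x hx)⟩
  · intro hle
    have h1 : g ∈ centralizer ({C.z 1} : Set G) := (hle ⟨hgn, hgZ2⟩).2
    rw [mem_centralizer_singleton_iff] at h1
    rw [h1, mul_inv_cancel_right] at hg1
    exact hb1 (C.z_inj hg1).symm
  · intro h7
    have : Fact (Nat.Prime 7) := ⟨by norm_num⟩
    obtain ⟨e, he⟩ := exists_prime_orderOf_dvd_card' 7 h7
    have he7 : (e : G) ^ 7 = 1 := by
      have h1 := pow_orderOf_eq_one e
      rw [he] at h1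
      exact congrArg Subtype.val h1
    have hcent := cent_of_seven hZ2le hZ8 hZ2c he7 (fun x hx => conj_mem_of_mem_nor e.2.1 hx) (fun x hx => by
      have h1 := conj_mem_of_mem_nor ((nor Z2).inv_mem e.2.2) hx
      rwa [inv_inv] at h1)
    have h1 : (e : G) ∈ C.QQ := hcz _ fun c => hcent _ (z_mem_Zs c)
    have h2 := Subgroup.orderOf_dvd_natCard _ h1
    rw [Subgroup.orderOf_coe, he, card_QQ K] at h2
    have h3 := (Nat.Prime.dvd_of_dvd_pow (by norm_num) h2)
    norm_num at h3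
  · intro x hx
    exact mem_centralizer_singleton_iff.2 (hPz x hx)

end core

end Cfsg.Agent.H663.PiBSRu
end

-- part: H663/PiBSRuW
section
/-!
# A subgroup `3^(1+2) : 4` of the Rudvalis group (helper663, row `Ru` of S3876)

`a`, `b`, `c`, `g` : `a³ = 1`, `c` central in `⟨a, b⟩`, `g a g⁻¹ = b`, `g b g⁻¹ = a⁻¹`; `|C(⟨a, b⟩)| ≤ 9`.
-/

set_option autoImplicit false
set_option maxRecDepth 100000
set_option exponentiation.threshold 5000

namespace Cfsg.Agent.H663.PiBSRu

open Subgroup Cfsg Cfsg.Agent.SporadicB Cfsg.Agent.RuD.Letters Cfsg.Agent.SporRec.TCUpperCert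
open Cfsg.Agent.KFacts.Ru Cfsg.Agent.KFacts.Ru.CentEng Cfsg.Agent.CpAutRuFive.Eng

def wA : List ℕ := [0, 3, 4, 5, 0, 6, 3, 1, 7, 4, 5, 7, 5, 0, 8, 1, 2, 1]
def wB : List ℕ := [0, 5, 0, 4, 6, 3, 5, 7, 1, 2, 1, 3, 5, 3, 6, 4, 7, 5, 1]
def wC : List ℕ := [0, 4]
def wG : List ℕ := [1, 2, 3, 6, 3, 5, 3, 3, 5, 7, 1, 3, 1, 3, 5, 7, 6, 7, 2]

/-- the certificate: images and intersections of rows -/
def stR : List (ℕ × Stp) := [
  (694, .im 1 0),
  (2754, .im 0 1),
  (3898, .im 1 1),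
  (1631, .im 0 2),
  (3826, .im 1 2),
  (2458, .im 0 3),
  (3402, .im 1 5),
  (1189, .im 1 6),
  (704, .cap [(true, 0), (true, 1), (true, 2), (true, 3), (false, 4), (true, 5), (false, 6), (false, 7), (true, 8)]),
  (2045, .im 0 9),
  (3638, .im 1 9),
  (2292, .im 0 10),
  (0, .cap [(false, 1), (true, 3), (true, 4), (true, 5), (false, 6), (false, 7), (true, 8), (true, 9), (false, 10), (true, 11)]),
  (879, .im 0 13),
  (3708, .im 1 13)]

theorem chkCellR : chkC [wA, wB] [(true, 0), (false, 1)] 21 9 = true := by decide +kernel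

theorem chkBaseR : chkB [wA, wB] 21 stR [0, 5, 3, 4, 5, 3, 1, 3, 5, 1, 7, 5, 0, 4, 3, 5, 3] = true := by decide +kernel

theorem card_R : Nat.card (Cen [wA, wB]) ≤ 9 := card_le_of chkCellR chkBaseR

theorem relA : chkEq (wA ++ (wA ++ wA)) [] = true := by decide +kernel
theorem relC : chkEq (wC ++ (wC ++ wC)) [] = true := by decide +kernel
theorem relGA : chkEq (wG ++ wA) (wB ++ wG) = true := by decide +kernel
theorem relGB : chkEq (wA ++ (wG ++ wB)) wG = true := by decide +kernel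
theorem relAB : chkEq (wA ++ wB) (wC ++ (wB ++ wA)) = true := by decide +kernel
theorem relAC : chkEq (wA ++ wC) (wC ++ wA) = true := by decide +kernel
theorem relBC : chkEq (wB ++ wC) (wC ++ wB) = true := by decide +kernel
theorem neC : Nat.beq (evalK wC 1) 1 = false := by decide +kernel

/-! ### the 7-local data -/

/-- a letter of order 7 -/
def wF : List ℕ := [3]

/-- points adjacent to their image under `wF` -/
def MF : ℕ := 0xc3c2cbe4434c600d108215e4c1ae444ce89735d60b2cdc1e424191335c05bf0206608aa28c09f0151ad90276ca63785937dc828f969e00d7db115e840c2e7359bf6da10c4b807cb801a6776eb910d3ea08ef016600ea1a60fc89f6b324252511506dca8ecf490718cdb8e8c160a7b2d682ab476f8cb24172c139168661f0303148a0415ce0f1400d76b64e4fb843223498e77328961f26e8074758149176111ca30941aaac582fc999d404051f5519e381df4088794384a054420e135c857549c77cf8922e6c8b2606646586941d82977c846a2732d022e18e1d07e26c58174da4dda55a8d8a5b4aae615d64ea241dcd1e0fb497a8a4eea42287626cb96f68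3c18284bc15119c8d41ac3c34e31890126765cc2cd59278ca251dc056cf231d2564380492ada0a112540550dc59e0e8ae2d64b28a89e5f808e7f3e3850cf0ecd7cd967a86167254c543280f01104a63b2509c650daa7dafcbd8634ca6ac6408bea162f9dc391df29991cd4255b8f8b2c815007179c1d0754bbb9414a5306e5cafb3dab80e654240cf4054942033586cb8e38df6df4ccd452919444c4e629c0fb3732e5eaf1eb940f443be3532135776025610b8b8f64014310402c842761b801b04002b411e9f51e5c5ce409427cd4893a534070ac20390d4b5fd24a41dbfa340799e383233d1578c44fe140443d9b4c33d909b70e4ca57470d59596b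

/-- instructions -/
def insF : List St := [
  .cnt 0 828, .base 0 192, .and 5 1, .diff 0 1, .diff 0 4, .diff 0 6, .pt 0 458, .and 0 4, .and 0 11,
  .and 0 11, .and 0 15, .diff 0 7, .diff 0 18, .and 0 21, .diff 0 8, .diff 0 19, .pt 0 32, .and 13 0,
  .and 0 2, .and 0 4, .and 0 28, .and 0 20, .and 0 9, .pt 0 10, .and 22 2, .and 0 37, .and 0 28, .and 0 18,
  .pt 0 0]

theorem adjF : chkAdj wF MF = true := by decide +kernel
theorem runF : run wF insF [MF] = some 28 := by decide +kernel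

theorem card_F : Nat.card (Cen [wF]) ≤ 28 := by
  refine card_le_of_run (w := wF) (List.mem_singleton.2 rfl) ?_ runF
  intro m hm
  rw [List.mem_singleton] at hm
  subst hm
  exact ⟨wF, fun x hx => hx _ (List.mem_singleton.2 rfl), adjF⟩


theorem relF7 : chkEq [3, 3, 3, 3, 3, 3, 3] [] = true := by decide +kernel
theorem neF : Nat.beq (evalK [3] 1) 1 = false := by decide +kernel
theorem relW2 : chkEq [2, 2] [] = true := by decide +kernel
theorem relWF : chkEq [2, 3, 2] [7] = true := by decide +kernel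

theorem finite_H : Finite RuOrder.H := by
  have : Finite (Equiv.Perm (Fin 4060)) := inferInstance
  infer_instance

theorem ne_one_of_evalK {w : List ℕ} (h : Nat.beq (evalK w 1) 1 = false) : (wprod ml w : RuOrder.H) ≠ 1 := by
  intro h1
  have h2 := evalK_eq w ⟨1, by norm_num⟩
  rw [h1] at h2
  have h3 : evalK w 1 = 1 := h2.symm
  rw [h3] at h
  exact absurd h (by decide)

theorem F7 : (F : RuOrder.H) ^ 7 = 1 := by
  have h := eq_of_chkEq relF7
  simp only [wprod, lv, ml, List.map_cons, List.map_nil, List.prod_cons, List.prod_nil, mul_one,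
    List.getD_cons_zero, List.getD_cons_succ] at h
  rw [← h]
  simp only [pow_succ, pow_zero, one_mul, mul_assoc]

theorem F_ne : (F : RuOrder.H) ≠ 1 := by
  have h := ne_one_of_evalK neF
  rwa [show (wprod ml [3] : RuOrder.H) = F from mul_one F] at h

theorem W2 : (W : RuOrder.H) * W = 1 := by
  have h := eq_of_chkEq relW2
  simpa only [wprod, lv, ml, List.map_cons, List.map_nil, List.prod_cons, List.prod_nil, mul_one,
    List.getD_cons_zero, List.getD_cons_succ] using h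

theorem WFW : (W : RuOrder.H) * F * W = F⁻¹ := by
  have h := eq_of_chkEq relWF
  simp only [wprod, lv, ml, List.map_cons, List.map_nil, List.prod_cons, List.prod_nil, mul_one,
    List.getD_cons_zero, List.getD_cons_succ] at h
  rw [mul_assoc]
  exact h

/-- **7-local data** -/
theorem seven_H {R : Subgroup RuOrder.H} (hR : Nat.card R = 7) :
    Nat.card (centralizer (R : Set RuOrder.H)) = 28 ∧ Nat.card (normalizer (R : Set RuOrder.H)) = 168 := by
  have := finite_H
  have hF7 : Fact (Nat.Prime 7) := ⟨by norm_num⟩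
  have hoF : orderOf (F : RuOrder.H) = 7 := orderOf_eq_prime F7 F_ne
  have hp2 : ¬ 7 ^ 2 ∣ Nat.card RuOrder.H := by rw [RuOrder.card_H]; norm_num
  obtain ⟨K, e, s, he, hc, hT, hs, hall⟩ := H904.SylOne.main hp2 hoF
  have h28 : Nat.card (centralizer ({F} : Set RuOrder.H)) ≤ 28 := by
    have h1 := card_F
    have h2 : centralizer ({F} : Set RuOrder.H) = Cen [wF] := by
      ext x
      rw [mem_centralizer_singleton_iff, mem_Cen]
      simp only [wF, List.mem_singleton, forall_eq]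
      rw [show (wprod ml [3] : RuOrder.H) = F from mul_one F]
    rwa [h2]
  -- `e` is even
  have he2 : 2 ∣ e := by
    by_contra hodd
    obtain ⟨h1, h2⟩ := hall (zpowers F) (by rw [Nat.card_zpowers, hoF])
    have hWn : (W : RuOrder.H) ∈ normalizer ((zpowers F : Subgroup RuOrder.H) : Set RuOrder.H) := by
      have hWi : (W : RuOrder.H)⁻¹ = W := inv_eq_of_mul_eq_one_right W2
      have hcl : ∀ n ∈ zpowers (F : RuOrder.H), W * n * (W : RuOrder.H)⁻¹ ∈ zpowers (F : RuOrder.H) := by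
        intro n hn
        obtain ⟨k, rfl⟩ := mem_zpowers_iff.1 hn
        have e1 : W * F ^ k * (W : RuOrder.H)⁻¹ = (W * F * (W : RuOrder.H)⁻¹) ^ k := by
          exact (map_zpow (MulAut.conj W) F k)
        rw [e1, hWi, WFW]
        exact zpow_mem (inv_mem (mem_zpowers _)) _
      exact mem_normalizer_fintype hcl
    have hle : centralizer ((zpowers F : Subgroup RuOrder.H) : Set RuOrder.H) ≤ normalizer ((zpowers F : Subgroup RuOrder.H) : Set RuOrder.H) :=
      centralizer_le_normalizer _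
    have hnorm : ((centralizer ((zpowers F : Subgroup RuOrder.H) : Set RuOrder.H)).subgroupOf
        (normalizer ((zpowers F : Subgroup RuOrder.H) : Set RuOrder.H))).Normal := by
      rw [← normalizerMonoidHom_ker]
      infer_instance
    have hidx : ((centralizer ((zpowers F : Subgroup RuOrder.H) : Set RuOrder.H)).subgroupOf
        (normalizer ((zpowers F : Subgroup RuOrder.H) : Set RuOrder.H))).index = e := by
      have h3 := index_mul_card ((centralizer ((zpowers F : Subgroup RuOrder.H) : Set RuOrder.H)).subgroupOf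
        (normalizer ((zpowers F : Subgroup RuOrder.H) : Set RuOrder.H)))
      rw [Nat.card_congr (subgroupOfEquivOfLe hle).toEquiv, h1, h2] at h3
      have h4 : 0 < 7 * K := by
        rw [← h1]; exact Nat.card_pos
      exact Nat.eq_of_mul_eq_mul_right h4 (by rw [h3]; ring)
    have h5 := pow_index_mem ((centralizer ((zpowers F : Subgroup RuOrder.H) : Set RuOrder.H)).subgroupOf
        (normalizer ((zpowers F : Subgroup RuOrder.H) : Set RuOrder.H))) ⟨W, hWn⟩
    rw [hidx, mem_subgroupOf] at h5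
    change (W : RuOrder.H) ^ e ∈ _ at h5
    obtain ⟨k, hk⟩ : Odd e := by
      rwa [← Nat.not_even_iff_odd, even_iff_two_dvd]
    have h6 : (W : RuOrder.H) ^ e = W := by
      rw [hk, pow_succ, pow_mul, pow_two, W2, one_pow, one_mul]
    rw [h6, H904.SylOne.centralizer_zpowers_eq, mem_centralizer_singleton_iff] at h5
    have h7 := WFW
    rw [h5, mul_assoc, W2, mul_one] at h7
    have h8 : (F : RuOrder.H) ^ 2 = 1 := by
      rw [pow_two]
      nth_rewrite 2 [h7]
      exact mul_inv_cancel _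
    have h9 : orderOf (F : RuOrder.H) ∣ 2 := orderOf_dvd_of_pow_eq_one h8
    rw [hoF] at h9
    norm_num at h9
  rw [RuOrder.card_H] at hT
  rw [hc] at h28
  have hK4 : K ≤ 4 := by omega
  have he6 : e = 2 ∨ e = 6 := by
    have h1 := Nat.le_of_dvd (by norm_num) he
    interval_cases e <;> simp_all only [_root_.Nat.reducePow, _root_.Nat.add_one_sub_one, _root_.zero_dvd_iff, _root_.OfNat.ofNat_ne_zero, _root_.isUnit_iff_eq_one, _root_.IsUnit.dvd, _root_.mul_one, _root_.Nat.dvd_one, _root_.OfNat.ofNat_ne_one, _root_.Nat.reduceDvd, _root_.dvd_refl, _root_.Nat.reduceLeDiff, _root_.Nat.reduceEqDiff, _root_.or_false, _root_.Std.le_refl, _root_.or_true]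
  have hK : K = 4 ∧ e = 6 := by
    have hs' : s % 7 = 1 := hs
    rcases he6 with rfl | rfl
    · interval_cases K <;> (clear * - hT hs'; omega)
    · interval_cases K <;> (clear * - hT hs'; omega)
  obtain ⟨h1, h2⟩ := hall R hR
  rw [h1, h2, hK.1, hK.2]
  exact ⟨rfl, rfl⟩

/-! ### the 3-local data -/

/-- **3-local data** -/
theorem three_H : ∃ a b c g : RuOrder.H, a ^ 3 = 1 ∧ c ^ 3 = 1 ∧ c ≠ 1 ∧ g * a * g⁻¹ = b ∧ g * b * g⁻¹ = a⁻¹ ∧
    a * b = c * (b * a) ∧ a * c = c * a ∧ b * c = c * b ∧ Nat.card (centralizer ({a, b} : Set RuOrder.H)) ≤ 9 := by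
  have h1 := eq_of_chkEq relA
  have h2 := eq_of_chkEq relC
  have h3 := eq_of_chkEq relGA
  have h4 := eq_of_chkEq relGB
  have h5 := eq_of_chkEq relAB
  have h6 := eq_of_chkEq relAC
  have h7 := eq_of_chkEq relBC
  simp only [wprod_append, wprod_nil] at h1 h2 h3 h4 h5 h6 h7
  refine ⟨wprod ml wA, wprod ml wB, wprod ml wC, wprod ml wG, ?_, ?_, ne_one_of_evalK neC, ?_, ?_, h5, h6, h7, ?_⟩
  · rw [pow_succ', pow_two]; exact h1
  · rw [pow_succ', pow_two]; exact h2
  · rw [h3, mul_inv_cancel_right]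
  · calc wprod ml wG * wprod ml wB * (wprod ml wG)⁻¹ = (wprod ml wA)⁻¹ * (wprod ml wA * (wprod ml wG * wprod ml wB)) *
          (wprod ml wG)⁻¹ := by group
      _ = _ := by rw [h4]; group
  · refine le_trans (Nat.le_of_eq ?_) card_R
    have : centralizer ({wprod ml wA, wprod ml wB} : Set RuOrder.H) = Cen [wA, wB] := by
      ext x
      rw [mem_centralizer_iff, mem_Cen]
      constructor
      · intro hx w hw
        rw [List.mem_cons, List.mem_singleton] at hw
        rcases hw with rfl | rfl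
        · exact (hx _ (by simp)).symm
        · exact (hx _ (by simp)).symm
      · intro hx y hy
        rcases hy with rfl | rfl
        · exact (hx wA (by simp)).symm
        · exact (hx wB (by simp)).symm
    rw [this]

end Cfsg.Agent.H663.PiBSRu
end

-- part: H663/PiBSRu
section
/-!
# The row `Ru` of S3876 (helper663)

`row_ru` : if `2, 3 ∈ π` and `Ru` satisfies the Sylow theorem for `π` (`DC π`), then `Ru` is a π-group.
-/

set_option autoImplicit false
set_option maxRecDepth 100000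

namespace Cfsg.Agent.H663.PiBSRu

open Subgroup Cfsg Cfsg.Agent.H543.PiBS

section steps

variable {S : Type*} [Group S] [Finite S] {a b c g : S}

/-- `c` lies in every subgroup `Y` of order `2^14 · 21` of a subgroup `H ∋ a, b, g` of order `2^14 · 189` -/
theorem c_mem_of (hs : Hs a b c g) (h81 : ¬ 3 ^ 4 ∣ Nat.card S) {H Y : Subgroup S} (hYH : Y ≤ H)
    (cH : Nat.card H = 2 ^ 14 * 189) (cY : Nat.card Y = 2 ^ 14 * 21) (ha : a ∈ H) (hb : b ∈ H) (hg : g ∈ H) : c ∈ Y := by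
  have hR := hs.card_eq h81
  obtain ⟨R, hRdef⟩ : ∃ R : Subgroup S, R = _root_.Subgroup.closure {a, b} := ⟨_, rfl⟩
  rw [← hRdef] at hR
  have cl : ∀ x, x ∈ R → x ∈ closure ({a, b} : Set S) := fun x hx => by rw [← hRdef]; exact hx
  have hRH : R ≤ H := by
    rw [hRdef, closure_le]
    rintro x (rfl | rfl)
    · exact ha
    · exact hb
  -- `|R ∩ Y| = 3`
  have hi : Y.relIndex H = 9 := by
    have h1 := (Y.subgroupOf H).index_mul_card
    rw [Nat.card_congr (subgroupOfEquivOfLe hYH).toEquiv, cH, cY] at h1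
    have h2 : (Y.subgroupOf H).index * (2 ^ 14 * 21) = 9 * (2 ^ 14 * 21) := by rw [h1]; norm_num
    exact Nat.eq_of_mul_eq_mul_right (by norm_num) h2
  have hle : Y.relIndex R ≤ 9 := by
    rw [← hi]
    exact relIndex_le_of_le_right hRH (by rw [hi]; norm_num)
  have hU : Y.relIndex R * Nat.card (R ⊓ Y : Subgroup S) = 27 := by
    have h1 := (Y.subgroupOf R).index_mul_card
    have h2 : Nat.card (Y.subgroupOf R) = Nat.card (R ⊓ Y : Subgroup S) := by
      rw [← inf_subgroupOf_left]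
      exact Nat.card_congr (subgroupOfEquivOfLe inf_le_left).toEquiv
    rw [h2, hR] at h1
    exact h1
  have hU3 : Nat.card (R ⊓ Y : Subgroup S) = 3 ∧ Y.relIndex R = 9 := by
    have h1 : Nat.card (R ⊓ Y : Subgroup S) ∣ 2 ^ 14 * 21 := cY ▸ card_dvd_of_le inf_le_right
    have h2 : Nat.card (R ⊓ Y : Subgroup S) ∣ 27 := hR ▸ card_dvd_of_le inf_le_left
    have h3 : Nat.card (R ⊓ Y : Subgroup S) ∣ 3 := by
      have := Nat.dvd_gcd h1 h2
      exact this
    rcases (Nat.dvd_prime Nat.prime_three).1 h3 with h4 | h4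
    · rw [h4] at hU; omega
    · exact ⟨h4, by rw [h4] at hU; omega⟩
  -- `g = r y`
  obtain ⟨r, hr, y, hy, hgr⟩ : ∃ r ∈ R, ∃ y ∈ Y, g = r * y := by
    have hst : ∀ A : Subgroup S, MulAction.stabilizer A ((1 : S) : S ⧸ Y) = Y.subgroupOf A := by
      intro A
      ext u
      rw [MulAction.mem_stabilizer_iff, mem_subgroupOf]
      show (((u : S) * 1 : S) : S ⧸ Y) = ((1 : S) : S ⧸ Y) ↔ _
      rw [mul_one, eq_comm, QuotientGroup.eq]
      simp
    have hcard : ∀ A : Subgroup S, (MulAction.orbit A ((1 : S) : S ⧸ Y)).ncard = Y.relIndex A := by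
      intro A
      rw [← MulAction.index_stabilizer, hst]
      rfl
    have hsub : MulAction.orbit R ((1 : S) : S ⧸ Y) ⊆ MulAction.orbit H ((1 : S) : S ⧸ Y) := by
      rintro _ ⟨u, rfl⟩
      exact ⟨⟨u, hRH u.2⟩, rfl⟩
    have heq : MulAction.orbit R ((1 : S) : S ⧸ Y) = MulAction.orbit H ((1 : S) : S ⧸ Y) := by
      apply Set.eq_of_subset_of_ncard_le hsub
      rw [hcard, hcard, hU3.2, hi]
    have hg' : ((g : S) : S ⧸ Y) ∈ MulAction.orbit H ((1 : S) : S ⧸ Y) :=
      ⟨⟨g, hg⟩, by show ((g * 1 : S) : S ⧸ Y) = _; rw [mul_one]⟩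
    rw [← heq] at hg'
    obtain ⟨u, hu⟩ := hg'
    have hu' : (((u : S) * 1 : S) : S ⧸ Y) = (g : S ⧸ Y) := hu
    rw [mul_one, QuotientGroup.eq] at hu'
    exact ⟨u, u.2, _, hu', by group⟩
  -- a generator of `R ∩ Y`
  have : Fact (Nat.Prime 3) := ⟨Nat.prime_three⟩
  obtain ⟨u, hu⟩ := exists_prime_orderOf_dvd_card' (G := (R ⊓ Y : Subgroup S)) 3 (by rw [hU3.1])
  have huo : orderOf (u : S) = 3 := by rw [Subgroup.orderOf_coe, hu]
  have hu3 : (u : S) ^ 3 = 1 := by rw [← huo]; exact pow_orderOf_eq_one _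
  have huR : (u : S) ∈ R := u.2.1
  have hzu : zpowers (u : S) = R ⊓ Y := by
    apply eq_of_le_of_card_ge (zpowers_le.2 u.2)
    rw [Nat.card_zpowers, huo, hU3.1]
  -- `y` normalises it
  have hyR : ∀ x ∈ R, y * x * y⁻¹ ∈ R := by
    intro x hx
    have e1 : y = r⁻¹ * g := by rw [hgr]; group
    rw [e1]
    have h1 : g * x * g⁻¹ ∈ R := by
      rw [hRdef] at hx ⊢
      exact hs.g_norm hx
    have e2 : r⁻¹ * g * x * (r⁻¹ * g)⁻¹ = r⁻¹ * (g * x * g⁻¹) * r := by group
    rw [e2]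
    exact mul_mem (mul_mem (inv_mem hr) h1) hr
  have hyu : y * (u : S) * y⁻¹ ∈ zpowers (u : S) := by
    rw [hzu]
    exact mem_inf.2 ⟨hyR _ huR, Y.mul_mem (Y.mul_mem hy u.2.2) (Y.inv_mem hy)⟩
  have hsq := sq_comm hu3 hyu
  -- `y² = r' g²`
  obtain ⟨k, hk⟩ := hs.theta (cl _ huR)
  have hgr' : g * r⁻¹ * g⁻¹ ∈ R := by
    have := hr
    rw [hRdef] at this ⊢
    exact hs.g_norm (inv_mem this)
  have hr' : r⁻¹ * (g * r⁻¹ * g⁻¹) ∈ R := mul_mem (inv_mem hr) hgr'
  obtain ⟨m, hm⟩ := hs.comm (cl _ hr') (cl _ (R.inv_mem huR))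
  have hcc : Commute (r⁻¹ * (g * r⁻¹ * g⁻¹)) (c ^ k) := (hs.cent (cl _ hr')).zpow_right k
  have h1 : (u : S) = c ^ (k + m) * (u : S)⁻¹ := by
    have e1 : y = r⁻¹ * g := by rw [hgr]; group
    calc (u : S) = y * (y * (u : S) * y⁻¹) * y⁻¹ := hsq.symm
      _ = (r⁻¹ * (g * r⁻¹ * g⁻¹)) * (g * (g * (u : S) * g⁻¹) * g⁻¹) * (r⁻¹ * (g * r⁻¹ * g⁻¹))⁻¹ := by
          rw [e1]; simp only [mul_inv_rev, inv_inv, mul_assoc, inv_mul_cancel_left]
      _ = ((r⁻¹ * (g * r⁻¹ * g⁻¹)) * c ^ k) * (u : S)⁻¹ * (r⁻¹ * (g * r⁻¹ * g⁻¹))⁻¹ := by rw [hk]; group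
      _ = c ^ k * ((r⁻¹ * (g * r⁻¹ * g⁻¹)) * (u : S)⁻¹) * (r⁻¹ * (g * r⁻¹ * g⁻¹))⁻¹ := by rw [hcc.eq]; group
      _ = c ^ k * (c ^ m * ((u : S)⁻¹ * (r⁻¹ * (g * r⁻¹ * g⁻¹)))) * (r⁻¹ * (g * r⁻¹ * g⁻¹))⁻¹ := by rw [hm]
      _ = c ^ (k + m) * (u : S)⁻¹ := by rw [zpow_add]; group
  have h2 : (u : S) ^ 2 ∈ zpowers c := by
    rw [pow_two]
    nth_rewrite 1 [h1]
    rw [inv_mul_cancel_right]
    exact zpow_mem (mem_zpowers c) _
  have h3 : (u : S) ∈ zpowers c := by
    have e1 : (u : S) = ((u : S) ^ 2) ^ 2 := by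
      rw [← pow_mul, show 2 * 2 = 3 + 1 from rfl, pow_succ, hu3, one_mul]
    rw [e1]
    exact pow_mem h2 2
  have hco : orderOf c = 3 := orderOf_eq_prime hs.c3 hs.c1
  have h4 : zpowers (u : S) = zpowers c := by
    apply eq_of_le_of_card_ge (zpowers_le.2 h3)
    rw [Nat.card_zpowers, Nat.card_zpowers, hco, huo]
  have h5 : c ∈ R ⊓ Y := by
    rw [← hzu, h4]
    exact mem_zpowers c
  exact h5.2

/-- the normalizer in a subgroup -/
theorem card_norm_dvd {H : Subgroup S} (X : Subgroup H) :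
    Nat.card (normalizer (X : Set H)) ∣ Nat.card (normalizer ((X.map H.subtype : Subgroup S) : Set S)) := by
  rw [Nat.card_congr ((normalizer (X : Set H)).equivMapOfInjective H.subtype H.subtype_injective).toEquiv]
  apply card_dvd_of_le
  rintro _ ⟨e, he, rfl⟩
  refine mem_normalizer_fintype ?_
  rintro _ ⟨x, hx, rfl⟩
  exact ⟨e * x * e⁻¹, (mem_normalizer_iff.1 he x).1 hx, rfl⟩

/-- **the case `|H| = 2^14 · 3^3 · 7`** -/
theorem last_step (hs : Hs a b c g) (h81 : ¬ 3 ^ 4 ∣ Nat.card S)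
    (seven : ∀ R : Subgroup S, Nat.card R = 7 → Nat.card (centralizer (R : Set S)) = 28 ∧
      Nat.card (normalizer (R : Set S)) = 168) {H Y : Subgroup S} (hYH : Y ≤ H)
    (cH : Nat.card H = 2 ^ 14 * 189) (cY : Nat.card Y = 2 ^ 14 * 21) (ha : a ∈ H) (hb : b ∈ H) (hg : g ∈ H) : False := by
  have : Fact (Nat.Prime 3) := ⟨Nat.prime_three⟩
  have : Fact (Nat.Prime 7) := ⟨by norm_num⟩
  obtain ⟨K, hK⟩ : ∃ K : Subgroup H, K = (Y.subgroupOf H).normalCore := ⟨_, rfl⟩
  have hKn : K.Normal := by rw [hK]; infer_instance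
  have hKle : K ≤ Y.subgroupOf H := by rw [hK]; exact normalCore_le _
  have hKc : Nat.card K ∣ 2 ^ 14 * 21 := by
    have h1 := card_dvd_of_le hKle
    rwa [Nat.card_congr (subgroupOfEquivOfLe hYH).toEquiv, cY] at h1
  have hcY : c ∈ Y := c_mem_of hs h81 hYH cH cY ha hb hg
  have hcK : (⟨c, hYH hcY⟩ : H) ∈ K := by
    rw [hK]
    intro h
    rw [mem_subgroupOf]
    have hY' : Y.map (MulAut.conj ((h : S)⁻¹)).toMonoidHom ≤ H := by
      rintro _ ⟨y, hy, rfl⟩
      change (h : S)⁻¹ * y * ((h : S)⁻¹)⁻¹ ∈ H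
      exact H.mul_mem (H.mul_mem (H.inv_mem h.2) (hYH hy)) (H.inv_mem (H.inv_mem h.2))
    obtain ⟨y, hy, hyc⟩ := c_mem_of hs h81 hY' cH (by rw [card_map_conj, cY]) ha hb hg
    have h1 : (h : S)⁻¹ * y * ((h : S)⁻¹)⁻¹ = c := hyc
    change (h : S) * c * (h : S)⁻¹ ∈ Y
    rw [← h1]
    have e1 : (h : S) * ((h : S)⁻¹ * y * ((h : S)⁻¹)⁻¹) * (h : S)⁻¹ = y := by group
    rw [e1]
    exact hy
  have hco : orderOf c = 3 := orderOf_eq_prime hs.c3 hs.c1
  have h3K : 3 ∣ Nat.card K := by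
    have h1 := Subgroup.orderOf_dvd_natCard K hcK
    rwa [Subgroup.orderOf_mk, hco] at h1
  -- `7 ∣ |K|`
  have h7K : 7 ∣ Nat.card K := by
    by_contra h7
    obtain ⟨P⟩ : Nonempty (Sylow 3 K) := inferInstance
    have hP3 : 3 ∣ Nat.card P := by
      have := P.pow_dvd_card_of_pow_dvd_card (n := 1) (by rwa [pow_one])
      rwa [pow_one] at this
    have hPc : Nat.card P = 3 := by
      obtain ⟨n, hn⟩ := IsPGroup.iff_card.1 P.2
      have hd : (3 : ℕ) ^ n ∣ 2 ^ 14 * 21 := hn ▸ (card_subgroup_dvd_card (P : Subgroup K)).trans hKc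
      have hn1 : n < 2 := by
        by_contra hcon
        have h1 : (3 : ℕ) ^ 2 ∣ 2 ^ 14 * 21 := (pow_dvd_pow 3 (not_lt.1 hcon)).trans hd
        norm_num at h1
      interval_cases n
      · rw [hn] at hP3; norm_num at hP3
      · rw [hn]; norm_num
    obtain ⟨X, hX⟩ : ∃ X : Subgroup H, X = map K.subtype (P : Subgroup K) := ⟨_, rfl⟩
    have hXc : Nat.card X = 3 := by
      rw [hX, ← Nat.card_congr ((P : Subgroup K).equivMapOfInjective _ K.subtype_injective).toEquiv, hPc]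
    have hfr := card_frattini P
    rw [← hX, cH] at hfr
    have h7N : 7 ∣ Nat.card (normalizer (X : Set H)) := by
      have h1 : 7 ∣ Nat.card (normalizer (X : Set H)) * Nat.card K := (by norm_num : 7 ∣ 2 ^ 14 * 189).trans hfr
      rcases (Nat.Prime.dvd_mul (by norm_num)).1 h1 with h2 | h2
      · exact h2
      · exact absurd h2 h7
    obtain ⟨e, he⟩ := exists_prime_orderOf_dvd_card' 7 h7N
    have he' : orderOf ((e : H) : S) = 7 := by rw [Subgroup.orderOf_coe, Subgroup.orderOf_coe, he]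
    obtain ⟨x, hx⟩ := exists_prime_orderOf_dvd_card' (G := X) 3 (by rw [hXc])
    have hx' : orderOf (((x : X) : H) : S) = 3 := by rw [Subgroup.orderOf_coe, Subgroup.orderOf_coe, hx]
    have hzx : zpowers ((x : X) : H) = X := by
      apply eq_of_le_of_card_ge (zpowers_le.2 x.2)
      rw [Nat.card_zpowers, Subgroup.orderOf_coe, hx, hXc]
    have hconj : (e : H) * (x : H) * (e : H)⁻¹ ∈ zpowers (x : H) := by
      rw [hzx]
      exact (mem_normalizer_iff.1 e.2 _).1 x.2
    have hx3 : (x : H) ^ 3 = 1 := by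
      rw [← show orderOf (x : H) = 3 by rw [Subgroup.orderOf_coe, hx]]
      exact pow_orderOf_eq_one _
    have hsq := sq_comm hx3 hconj
    have hcomm2 : Commute ((e : H) ^ 2) (x : H) := by
      rw [pow_two]
      calc (e : H) * (e : H) * (x : H) = ((e : H) * ((e : H) * (x : H) * (e : H)⁻¹) * (e : H)⁻¹) * ((e : H) * (e : H)) := by group
        _ = _ := by rw [hsq]
    have hcomm : Commute (e : H) (x : H) := by
      have h1 : (e : H) = ((e : H) ^ 2) ^ 4 := by
        have h2 : (e : H) ^ 7 = 1 := by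
          rw [← show orderOf (e : H) = 7 by rw [Subgroup.orderOf_coe, he]]
          exact pow_orderOf_eq_one _
        rw [← pow_mul, show 2 * 4 = 7 + 1 from rfl, pow_succ, h2, one_mul]
      rw [h1]
      exact hcomm2.pow_left 4
    -- an element of order 3 in `C(e)`
    have h28 := (seven (zpowers ((e : H) : S)) (by rw [Nat.card_zpowers, he'])).1
    have hmem : ((x : H) : S) ∈ centralizer ((zpowers ((e : H) : S) : Subgroup S) : Set S) := by
      rw [mem_centralizer_iff]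
      intro y hy
      obtain ⟨k, rfl⟩ := mem_zpowers_iff.1 hy
      have h1 : Commute ((e : H) : S) ((x : H) : S) := congrArg Subtype.val hcomm.eq
      exact (h1.zpow_left k).eq
    have h1 := Subgroup.orderOf_dvd_natCard _ hmem
    rw [hx', h28] at h1
    norm_num at h1
  -- the Sylow 7-subgroup
  obtain ⟨P⟩ : Nonempty (Sylow 7 K) := inferInstance
  have hP7 : 7 ∣ Nat.card P := by
    have := P.pow_dvd_card_of_pow_dvd_card (n := 1) (by rwa [pow_one])
    rwa [pow_one] at this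
  have hPc : Nat.card P = 7 := by
    obtain ⟨n, hn⟩ := IsPGroup.iff_card.1 P.2
    have hd : (7 : ℕ) ^ n ∣ 2 ^ 14 * 21 := hn ▸ (card_subgroup_dvd_card (P : Subgroup K)).trans hKc
    have hn1 : n < 2 := by
      by_contra hcon
      have h1 : (7 : ℕ) ^ 2 ∣ 2 ^ 14 * 21 := (pow_dvd_pow 7 (not_lt.1 hcon)).trans hd
      norm_num at h1
    interval_cases n
    · rw [hn] at hP7; norm_num at hP7
    · rw [hn]; norm_num
  obtain ⟨X, hX⟩ : ∃ X : Subgroup H, X = map K.subtype (P : Subgroup K) := ⟨_, rfl⟩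
  have hXc : Nat.card X = 7 := by
    rw [hX, ← Nat.card_congr ((P : Subgroup K).equivMapOfInjective _ K.subtype_injective).toEquiv, hPc]
  have hfr := card_frattini P
  rw [← hX, cH] at hfr
  have hN := card_norm_dvd X
  rw [(seven _ (by rw [← Nat.card_congr (X.equivMapOfInjective _ H.subtype_injective).toEquiv, hXc])).2] at hN
  have h27 : 27 ∣ 168 * (2 ^ 14 * 21) := ((by norm_num : 27 ∣ 2 ^ 14 * 189).trans hfr).trans (Nat.mul_dvd_mul hN hKc)
  norm_num at h27

omit [Group S] [Finite S] in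
theorem num_fix {p z k m : ℕ} (hp : p = 5 ∨ p = 13 ∨ p = 29) (hz3 : 3 ∣ z) (hz9 : z ≤ 9) (hz : z ∣ 27) (hk : k ∣ z) (hkm : k ∣ m)
    (hm : m ∣ 27) (h1 : z % p = k % p) (h2 : 27 % p = m % p) : m = 27 := by
  have hdiv : ∀ t : ℕ, t ∣ 27 → t = 1 ∨ t = 3 ∨ t = 9 ∨ t = 27 := by
    intro t ht
    have h3 : t ∈ Nat.divisors 27 := Nat.mem_divisors.2 ⟨ht, by norm_num⟩
    rw [show Nat.divisors 27 = {1, 3, 9, 27} by decide] at h3
    simpa only [Finset.mem_insert, Finset.mem_singleton] using h3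
  have hz' := hdiv z hz
  have hk' := hdiv k (hk.trans hz)
  have hm' := hdiv m hm
  rcases hp with rfl | rfl | rfl
  · rcases hm' with rfl | rfl | rfl | rfl <;> first | rfl | (exfalso; revert h2; decide)
  · rcases hm' with rfl | rfl | rfl | rfl
    · exfalso
      have hk1 : k = 1 := Nat.dvd_one.1 hkm
      subst hk1
      rcases hz' with rfl | rfl | rfl | rfl
      · omega
      · revert h1; decide
      · revert h1; decide
      · omega
    · exfalso; revert h2; decide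
    · exfalso; revert h2; decide
    · rfl
  · rcases hm' with rfl | rfl | rfl | rfl <;> first | rfl | (exfalso; revert h2; decide)

/-- `N(⟨a, b⟩)` has no elements of order 5, 13 and 29 -/
theorem norm_three (hs : Hs a b c g) (h81 : ¬ 3 ^ 4 ∣ Nat.card S)
    (h9 : Nat.card (centralizer ({a, b} : Set S)) ≤ 9) {p : ℕ} (hp : p = 5 ∨ p = 13 ∨ p = 29) :
    ¬ p ∣ Nat.card (normalizer ((_root_.Subgroup.closure ({a, b} : Set S) : Subgroup S) : Set S)) := by
  intro hd
  have hpp : Fact p.Prime := ⟨by rcases hp with rfl | rfl | rfl <;> norm_num⟩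
  have h3 : Fact (Nat.Prime 3) := ⟨Nat.prime_three⟩
  obtain ⟨x, hx⟩ := exists_prime_orderOf_dvd_card' p hd
  have hxo : orderOf (x : S) = p := by rw [Subgroup.orderOf_coe, hx]
  have hxp : (x : S) ^ p = 1 := by rw [← hxo]; exact pow_orderOf_eq_one _
  have hR := hs.card_eq h81
  obtain ⟨R, hRdef⟩ : ∃ R : Subgroup S, R = _root_.Subgroup.closure {a, b} := ⟨_, rfl⟩
  have hxR : (x : S) ∈ normalizer (R : Set S) := by rw [hRdef]; exact x.2
  have hRp : IsPGroup 3 R := by rw [hRdef]; exact hs.isPGroup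
  rw [← hRdef] at hR
  -- `C_R(x) ≠ 1`
  obtain ⟨Z, hZ⟩ : ∃ Z : Subgroup S, Z = (center R).map R.subtype := ⟨_, rfl⟩
  have hZc : Nat.card Z = Nat.card (center R) := by
    rw [hZ, ← Nat.card_congr ((center R).equivMapOfInjective _ R.subtype_injective).toEquiv]
  have hcR : c ∈ R := by rw [hRdef]; exact hs.c_mem
  have hcent : ∀ u ∈ R, Commute u c := fun u hu => hs.cent (by rw [← hRdef]; exact hu)
  have hcZ : c ∈ Z := by
    rw [hZ]
    refine ⟨⟨c, hcR⟩, ?_, rfl⟩
    rw [SetLike.mem_coe, mem_center_iff]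
    intro u
    exact Subtype.ext (hcent u u.2)
  have hZ3 : 3 ∣ Nat.card Z := by
    have h1 := Subgroup.orderOf_dvd_natCard Z hcZ
    rwa [orderOf_eq_prime hs.c3 hs.c1] at h1
  have hZle : Nat.card Z ≤ 9 := by
    have h1 : Nat.card Z ∣ 27 := by
      rw [hZc, ← hR]
      exact card_subgroup_dvd_card _
    have h2 : Nat.card Z ≠ 27 := by
      intro h
      rw [hZc, ← hR] at h
      have h3 : center R = ⊤ := eq_top_of_card_eq _ h
      have ha : a ∈ R := by rw [hRdef]; exact _root_.Subgroup.subset_closure (by simp)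
      have hb : b ∈ R := by rw [hRdef]; exact _root_.Subgroup.subset_closure (by simp)
      have h4 : (⟨a, ha⟩ : R) ∈ center R := by rw [h3]; exact mem_top _
      have h5 := congrArg Subtype.val (mem_center_iff.1 h4 ⟨b, hb⟩)
      have h6 : b * a = a * b := h5
      apply hs.c1
      have h7 := hs.ab
      rw [← h6] at h7
      exact right_eq_mul.1 h7
    have h3 : Nat.card Z ∈ Nat.divisors 27 := Nat.mem_divisors.2 ⟨h1, by norm_num⟩
    rw [show Nat.divisors 27 = {1, 3, 9, 27} by decide] at h3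
    simp only [Finset.mem_insert, Finset.mem_singleton] at h3
    omega
  have hxZ : (x : S) ∈ normalizer (Z : Set S) := by
    refine mem_normalizer_fintype ?_
    intro z hz
    rw [hZ] at hz ⊢
    obtain ⟨w, hw, rfl⟩ := hz
    have h1 : (x : S) * w * (x : S)⁻¹ ∈ R := (mem_normalizer_iff.1 hxR _).1 w.2
    refine ⟨⟨_, h1⟩, ?_, rfl⟩
    rw [SetLike.mem_coe, mem_center_iff]
    rintro ⟨v, hv⟩
    apply Subtype.ext
    change v * ((x : S) * w * (x : S)⁻¹) = (x : S) * w * (x : S)⁻¹ * v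
    have h2 : (x : S)⁻¹ * v * x ∈ R := by
      have h3 := (mem_normalizer_iff.1 ((normalizer (R : Set S)).inv_mem hxR) v).1 hv
      rwa [inv_inv] at h3
    have h4 : ((x : S)⁻¹ * v * x) * (w : S) = (w : S) * ((x : S)⁻¹ * v * x) :=
      congrArg Subtype.val (mem_center_iff.1 hw ⟨_, h2⟩)
    calc v * ((x : S) * w * (x : S)⁻¹) = (x : S) * (((x : S)⁻¹ * v * x) * (w : S)) * (x : S)⁻¹ := by group
      _ = (x : S) * ((w : S) * ((x : S)⁻¹ * v * x)) * (x : S)⁻¹ := by rw [h4]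
      _ = _ := by group
  have hm1 := fix_mod hxp hxZ
  have hm2 := fix_mod hxp hxR
  have hd1 : Nat.card (Z ⊓ centralizer ({(x : S)} : Set S) : Subgroup S) ∣ Nat.card Z := card_dvd_of_le inf_le_left
  have hZR : Z ≤ R := by
    rw [hZ]
    rintro _ ⟨w, -, rfl⟩
    exact w.2
  have hd2 : Nat.card (Z ⊓ centralizer ({(x : S)} : Set S) : Subgroup S) ∣
      Nat.card (R ⊓ centralizer ({(x : S)} : Set S) : Subgroup S) := card_dvd_of_le (inf_le_inf_right _ hZR)
  have hd3 : Nat.card (R ⊓ centralizer ({(x : S)} : Set S) : Subgroup S) ∣ 27 := by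
    rw [← hR]
    exact card_dvd_of_le inf_le_left
  have hZ27 : Nat.card Z ∣ 27 := by
    rw [hZc, ← hR]
    exact card_subgroup_dvd_card _
  have hall : Nat.card (R ⊓ centralizer ({(x : S)} : Set S) : Subgroup S) = 27 := by
    rw [hR] at hm2
    exact num_fix hp hZ3 hZle hZ27 hd1 hd2 hd3 hm1 hm2
  have hRx : R ≤ centralizer ({(x : S)} : Set S) := by
    have h1 : R ⊓ centralizer ({(x : S)} : Set S) = R := eq_of_le_of_card_ge inf_le_left (by rw [hall, hR])
    rw [← h1]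
    exact inf_le_right
  have hxC : (x : S) ∈ centralizer ({a, b} : Set S) := by
    rw [mem_centralizer_iff]
    intro y hy
    have h1 : y ∈ R := by rw [hRdef]; exact _root_.Subgroup.subset_closure hy
    exact mem_centralizer_singleton_iff.1 (hRx h1)
  have hcC : c ∈ centralizer ({a, b} : Set S) := by
    rw [mem_centralizer_iff]
    intro y hy
    exact (hcent y (by rw [hRdef]; exact _root_.Subgroup.subset_closure hy)).eq
  have h5 := Subgroup.orderOf_dvd_natCard _ hxC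
  have h6 := Subgroup.orderOf_dvd_natCard _ hcC
  rw [hxo] at h5
  rw [orderOf_eq_prime hs.c3 hs.c1] at h6
  have hpos : 0 < Nat.card (centralizer ({a, b} : Set S)) := Nat.card_pos
  rcases hp with rfl | rfl | rfl <;> (clear * - h9 h6 hpos h5; omega)

omit [Group S] [Finite S] in
theorem primes_ru {p : ℕ} (hp : p.Prime) (hd : p ∣ 145926144000) :
    p = 2 ∨ p = 3 ∨ p = 5 ∨ p = 7 ∨ p = 13 ∨ p = 29 := by
  rw [show 145926144000 = 2 ^ 14 * (3 ^ 3 * (5 ^ 3 * (7 * (13 * 29)))) by norm_num] at hd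
  have h : ∀ q : ℕ, q.Prime → p ∣ q → p = q := fun q hq h => (Nat.prime_dvd_prime_iff_eq hp hq).1 h
  rcases hp.dvd_mul.1 hd with h1 | h1
  · exact Or.inl (h 2 Nat.prime_two (hp.dvd_of_dvd_pow h1))
  rcases hp.dvd_mul.1 h1 with h1 | h1
  · exact Or.inr (Or.inl (h 3 Nat.prime_three (hp.dvd_of_dvd_pow h1)))
  rcases hp.dvd_mul.1 h1 with h1 | h1
  · exact Or.inr (Or.inr (Or.inl (h 5 (by norm_num) (hp.dvd_of_dvd_pow h1))))
  rcases hp.dvd_mul.1 h1 with h1 | h1
  · exact Or.inr (Or.inr (Or.inr (Or.inl (h 7 (by norm_num) h1))))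
  rcases hp.dvd_mul.1 h1 with h1 | h1
  · exact Or.inr (Or.inr (Or.inr (Or.inr (Or.inl (h 13 (by norm_num) h1)))))
  · exact Or.inr (Or.inr (Or.inr (Or.inr (Or.inr (h 29 (by norm_num) h1)))))

omit [Group S] [Finite S] in
/-- the possible indices -/
theorem index_cases {m n : ℕ} (h : m * n = 145926144000) (h2 : ¬ 2 ∣ n) (h3 : ¬ 3 ∣ n) (h7 : ¬ 7 ∣ n) (h5 : ¬ 5 ∣ m) :
    n = 125 ∨ n = 1625 ∨ n = 3625 ∨ (n = 47125 ∧ m = 2 ^ 14 * 189) := by
  have c2 : Nat.Coprime n 2 := ((Nat.Prime.coprime_iff_not_dvd Nat.prime_two).2 h2).symm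
  have c3 : Nat.Coprime n 3 := ((Nat.Prime.coprime_iff_not_dvd Nat.prime_three).2 h3).symm
  have c7 : Nat.Coprime n 7 := ((Nat.Prime.coprime_iff_not_dvd (by norm_num)).2 h7).symm
  have c5 : Nat.Coprime 5 m := (Nat.Prime.coprime_iff_not_dvd (by norm_num)).2 h5
  have d1 : n ∣ 47125 := by
    have hd : n ∣ (2 ^ 14 * 3 ^ 3 * 7) * 47125 := by
      rw [show (2 ^ 14 * 3 ^ 3 * 7) * 47125 = 145926144000 by norm_num, ← h]
      exact Dvd.intro_left _ rfl
    refine Nat.Coprime.dvd_of_dvd_mul_left ?_ hd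
    exact Nat.Coprime.mul_right (Nat.Coprime.mul_right (c2.pow_right 14) (c3.pow_right 3)) c7
  have d2 : 5 ^ 3 ∣ n := by
    have hd : 5 ^ 3 ∣ m * n := by rw [h]; norm_num
    exact Nat.Coprime.dvd_of_dvd_mul_left (c5.pow_left 3) hd
  obtain ⟨k, rfl⟩ := d2
  have d3 : k ∣ 377 := by
    rw [show 47125 = 5 ^ 3 * 377 by norm_num] at d1
    exact Nat.dvd_of_mul_dvd_mul_left (by norm_num) d1
  have hk : k ∈ Nat.divisors 377 := Nat.mem_divisors.2 ⟨d3, by norm_num⟩
  rw [show Nat.divisors 377 = {1, 13, 29, 377} by decide +kernel] at hk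
  simp only [Finset.mem_insert, Finset.mem_singleton] at hk
  rcases hk with rfl | rfl | rfl | rfl
  · left; rfl
  · right; left; rfl
  · right; right; left; rfl
  · right; right; right
    exact ⟨rfl, by omega⟩

/-- **main theorem** for a group with the local data of `Ru` -/
theorem main (hcard : Nat.card S = 145926144000) (hs : Hs a b c g)
    (h9 : Nat.card (centralizer ({a, b} : Set S)) ≤ 9)
    (seven : ∀ R : Subgroup S, Nat.card R = 7 → Nat.card (centralizer (R : Set S)) = 28 ∧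
      Nat.card (normalizer (R : Set S)) = 168)
    (two : ∃ (T : Sylow 2 S) (Y P1 P2 Cz : Subgroup S),
      normalizer ((T : Subgroup S) : Set S) ≤ T ∧ Nat.card T = 2 ^ 14 ∧
      (T : Subgroup S) ≤ P1 ∧ (T : Subgroup S) ≤ P2 ∧ P1 ≤ Y ∧ P2 ≤ Y ∧ ¬ P2 ≤ P1 ∧ Nat.card P1 = 2 ^ 14 * 3 ∧
      ¬ 7 ∣ Nat.card P2 ∧ Nat.card Y = 2 ^ 14 * 21 ∧ (T : Subgroup S) ≤ Cz ∧ Nat.card Cz = 245760 ∧
      ∀ X : Subgroup S, Cz ≤ X → Y ≤ X → X = ⊤)
    {π : Set ℕ} (h2 : 2 ∈ π) (h3 : 3 ∈ π) (hD : DC π S) : PiGrp π S := by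
  obtain ⟨T, Y, P1, P2, Cz, hself, hTc, hTP1, hTP2, hP1Y, hP2Y, hne, cP1, c7P2, cY, hTCz, cCz, hgen⟩ := two
  have : Fact (Nat.Prime 2) := ⟨Nat.prime_two⟩
  have f3 : Fact (Nat.Prime 3) := ⟨Nat.prime_three⟩
  have f7 : Fact (Nat.Prime 7) := ⟨by norm_num⟩
  have h81 : ¬ 3 ^ 4 ∣ Nat.card S := by rw [hcard]; norm_num
  have hq : ∀ {p q : ℕ}, p.Prime → q.Prime → p ∣ q → p = q := fun hp hq h => (Nat.prime_dvd_prime_iff_eq hp hq).1 h
  -- primes of `2^14 · 21`
  have p21 : ∀ p : ℕ, p.Prime → p ∣ 2 ^ 14 * 21 → p = 2 ∨ p = 3 ∨ p = 7 := by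
    intro p hp hd
    rw [show 2 ^ 14 * 21 = 2 ^ 14 * (3 * 7) by norm_num] at hd
    rcases hp.dvd_mul.1 hd with h | h
    · exact Or.inl (hq hp Nat.prime_two (hp.dvd_of_dvd_pow h))
    rcases hp.dvd_mul.1 h with h | h
    · exact Or.inr (Or.inl (hq hp Nat.prime_three h))
    · exact Or.inr (Or.inr (hq hp (by norm_num) h))
  have hTpi : IsPiSubgroup π (normalizer ((T : Subgroup S) : Set S)) := by
    intro p hp hd
    have h1 := hd.trans (card_dvd_of_le hself)
    rw [hTc] at h1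
    rw [hq hp Nat.prime_two (hp.dvd_of_dvd_pow h1)]
    exact h2
  obtain ⟨H, hH, -, hov⟩ := hD.overgroups T hTpi
  -- `7 ∈ π`
  have h7 : 7 ∈ π := by
    by_contra h7
    have hP1 : P1 ≤ H := hov P1 (by
      intro p hp hd
      rw [cP1] at hd
      rcases hp.dvd_mul.1 hd with h | h
      · rw [hq hp Nat.prime_two (hp.dvd_of_dvd_pow h)]; exact h2
      · rw [hq hp Nat.prime_three h]; exact h3) hTP1
    have hP2 : P2 ≤ H := hov P2 (by
      intro p hp hd
      rcases p21 p hp (hd.trans (cY ▸ card_dvd_of_le hP2Y)) with h | h | h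
      · rw [h]; exact h2
      · rw [h]; exact h3
      · rw [h] at hd; exact absurd hd c7P2) hTP2
    have h1 : Nat.card (H ⊓ Y : Subgroup S) ∣ (2 ^ 14 * 3) * 7 := by
      have := card_dvd_of_le (inf_le_right : H ⊓ Y ≤ Y)
      rw [cY] at this
      exact this
    have h7' : ¬ 7 ∣ Nat.card (H ⊓ Y : Subgroup S) := fun h =>
      h7 (hH.1 7 (by norm_num) (h.trans (card_dvd_of_le inf_le_left)))
    have h4 : Nat.card (H ⊓ Y : Subgroup S) ∣ 2 ^ 14 * 3 :=
      Nat.Coprime.dvd_of_dvd_mul_right (((Nat.Prime.coprime_iff_not_dvd (by norm_num)).2 h7').symm) h1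
    have h5 : P1 = H ⊓ Y := by
      apply eq_of_le_of_card_ge (le_inf hP1 hP1Y)
      rw [cP1]
      exact Nat.le_of_dvd (by norm_num) h4
    apply hne
    rw [h5]
    exact le_inf hP2 hP2Y
  have hYpi : IsPiSubgroup π Y := by
    intro p hp hd
    rw [cY] at hd
    rcases p21 p hp hd with h | h | h
    · rw [h]; exact h2
    · rw [h]; exact h3
    · rw [h]; exact h7
  have hYH : Y ≤ H := hov Y hYpi (hTP1.trans hP1Y)
  by_cases h5 : 5 ∈ π
  · -- `C(z) ≤ H`
    have hCH : Cz ≤ H := hov Cz (by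
      intro p hp hd
      rw [cCz, show 245760 = 2 ^ 14 * (3 * 5) by norm_num] at hd
      rcases hp.dvd_mul.1 hd with h | h
      · rw [hq hp Nat.prime_two (hp.dvd_of_dvd_pow h)]; exact h2
      rcases hp.dvd_mul.1 h with h | h
      · rw [hq hp Nat.prime_three h]; exact h3
      · rw [hq hp (by norm_num) h]; exact h5) hTCz
    have htop := hgen H hCH hYH
    intro p hp hd
    apply hH.1 p hp
    rw [htop, card_top]
    exact hd
  exfalso
  have hmn := H.card_mul_index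
  rw [hcard] at hmn
  have hn2 : ¬ 2 ∣ H.index := hH.2 2 Nat.prime_two h2
  have hn3 : ¬ 3 ∣ H.index := hH.2 3 Nat.prime_three h3
  have hn7 : ¬ 7 ∣ H.index := hH.2 7 (by norm_num) h7
  have hm5 : ¬ 5 ∣ Nat.card H := fun h => h5 (hH.1 5 (by norm_num) h)
  -- the sieve mod 7
  have s7 : H.index % 7 = 1 := by
    obtain ⟨P⟩ : Nonempty (Sylow 7 S) := inferInstance
    have hP7 : 7 ∣ Nat.card P := by
      have := P.pow_dvd_card_of_pow_dvd_card (n := 1) (by rw [hcard]; norm_num)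
      rwa [pow_one] at this
    have hPc : Nat.card P = 7 := by
      obtain ⟨n, hn⟩ := IsPGroup.iff_card.1 P.2
      have hd : (7 : ℕ) ^ n ∣ 145926144000 := by
        rw [← hn, ← hcard]
        exact card_subgroup_dvd_card _
      have hn1 : n < 2 := by
        by_contra hcon
        have h1 : (7 : ℕ) ^ 2 ∣ 145926144000 := (pow_dvd_pow 7 (not_lt.1 hcon)).trans hd
        norm_num at h1
      interval_cases n
      · rw [hn] at hP7; norm_num at hP7
      · rw [hn]; norm_num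
    exact sieve hD hH P (by
      intro p hp hd
      rw [(seven _ hPc).2, show 168 = 2 ^ 3 * (3 * 7) by norm_num] at hd
      rcases hp.dvd_mul.1 hd with h | h
      · rw [hq hp Nat.prime_two (hp.dvd_of_dvd_pow h)]; exact h2
      rcases hp.dvd_mul.1 h with h | h
      · rw [hq hp Nat.prime_three h]; exact h3
      · rw [hq hp (by norm_num) h]; exact h7)
  -- the normalizer of the Sylow 3-subgroup
  have hR := hs.card_eq h81
  have hN3 : IsPiSubgroup π (normalizer ((_root_.Subgroup.closure ({a, b} : Set S) : Subgroup S) : Set S)) := by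
    intro p hp hd
    have h1 := hd.trans (card_subgroup_dvd_card _)
    rw [hcard] at h1
    rcases primes_ru hp h1 with h | h | h | h | h | h
    · rw [h]; exact h2
    · rw [h]; exact h3
    · exact absurd hd (norm_three hs h81 h9 (by (clear * - h; tauto)))
    · rw [h]; exact h7
    · exact absurd hd (norm_three hs h81 h9 (by (clear * - h; tauto)))
    · exact absurd hd (norm_three hs h81 h9 (by (clear * - h; tauto)))
  have s3 : H.index % 3 = 1 := by
    let P : Sylow 3 S := Sylow.ofCard (_root_.Subgroup.closure ({a, b} : Set S)) (by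
      rw [hR, hcard]
      have h1 : Nat.factorization 145926144000 3 = 3 := by
        apply le_antisymm
        · by_contra hcon
          have h4 : 3 ^ 4 ∣ 145926144000 := (Nat.Prime.pow_dvd_iff_le_factorization Nat.prime_three (by norm_num)).2 (by omega)
          norm_num at h4
        · exact (Nat.Prime.pow_dvd_iff_le_factorization Nat.prime_three (by norm_num)).1 (by norm_num)
      rw [h1]; norm_num)
    exact sieve hD hH P hN3
  rcases index_cases hmn hn2 hn3 hn7 hm5 with h | h | h | ⟨-, hm⟩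
  · rw [h] at s7; norm_num at s7
  · rw [h] at s3; norm_num at s3
  · rw [h] at s7; norm_num at s7
  -- `|H| = 2^14 · 189`
  obtain ⟨K, hK, hNK⟩ := hD.d _ hN3
  obtain ⟨t, rfl⟩ := hD.c H K hH hK
  have hle : _root_.Subgroup.closure ({a, b} : Set S) ≤ H.map (MulAut.conj t).toMonoidHom := le_normalizer.trans hNK
  refine last_step hs h81 seven (H := H.map (MulAut.conj t).toMonoidHom) (Y := Y.map (MulAut.conj t).toMonoidHom)
    (map_mono hYH) (by rw [card_map_conj, hm]) (by rw [card_map_conj, cY]) (hle (_root_.Subgroup.subset_closure (by simp)))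
    (hle (_root_.Subgroup.subset_closure (by simp))) (hNK ?_)
  refine mem_normalizer_fintype ?_
  intro u hu
  exact hs.g_norm hu

end steps

/-- **the row `Ru` of S3876** -/
theorem row_ru {S : Type*} [Group S] [Finite S] (h : Cfsg.Spor.IsoRu S) {pi : Set ℕ} (h2 : 2 ∈ pi) (h3 : 3 ∈ pi)
    (hD : DC pi S) : PiGrp pi S := by
  obtain ⟨e0⟩ := h
  let e : S ≃* Cfsg.Agent.SporadicB.RuOrder.H := e0.trans Cfsg.Agent.RuLat.Main.equiv
  have hfin := finite_H
  obtain ⟨a, b, c, g, h1, h4, h5, h6, h7, h8, h9, h10, h11⟩ := three_H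
  have hmain := main (Cfsg.Agent.SporadicB.RuOrder.card_H) ⟨h1, h4, h5, h6, h7, h8, h9, h10⟩ h11 (fun _ => seven_H)
    (two_local ⟨Cfsg.Agent.RuLat.Main.equiv.symm⟩) h2 h3 (hD.congr e)
  intro p hp hd
  apply hmain p hp
  rwa [Nat.card_congr e.toEquiv] at hd

end Cfsg.Agent.H663.PiBSRu
end

-- part: H171/PiBS/JFour
section
/-!
# S3876: the row `J4` (helper171)

`row_J4_of` : `2, 3 ∈ π` and `D_π` imply that `J4` is a `π`-group, from the row `M24`.
-/

set_option autoImplicit false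

namespace Cfsg.Agent.H171.PiBS

open Subgroup Cfsg Cfsg.Agent.H543.PiBS Cfsg.Agent.H841.PiBS

universe u

theorem mem_prime_of_pgroup {G : Type*} [Group G] [Finite G] {π : Set ℕ} {p : ℕ} [hp : Fact p.Prime] (h : p ∈ π)
    {T : Subgroup G} (hT : IsPGroup p ↥T) : IsPiSubgroup π T := by
  intro q hq hd
  obtain ⟨n, hn⟩ := hT.exists_card_eq
  rw [hn] at hd
  rw [(Nat.prime_dvd_prime_iff_eq hq hp.out).1 (hq.dvd_of_dvd_pow hd)]
  exact h

/-- the row `J4` in the model -/
theorem jfour_model {S : Type u} [Group S] [Finite S] [IsSimpleGroup S] (hna : ¬ IsMulCommutative S)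
    (hJ : IsOfJankoFourType S) (hcS : 11 ^ 3 ∣ Nat.card S) {π : Set ℕ} (h2 : 2 ∈ π)
    (h24 : DT π ↥Cfsg.M24 → PiGrp π ↥Cfsg.M24) (h24c : Nat.card ↥Cfsg.M24 = 244823040) (hD : DC π S) : PiGrp π S := by
  have hF : Fact (Nat.Prime 2) := ⟨Nat.prime_two⟩
  obtain ⟨z, hz⟩ := id hJ
  obtain ⟨T⟩ : Nonempty (Sylow 2 S) := inferInstance
  obtain ⟨V, ⟨hVT, hV, hVc⟩, hun⟩ := S5566.result hna hJ T
  obtain ⟨-, K, hKN, hKV, hKVN, hK⟩ := S5567.result hna hJ V hV hVc
  obtain ⟨-, hco, -⟩ := S5582.result hna z hz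
  have hcoN := hco V hV hVc
  set N := normalizer (V : Set S) with hN
  -- `N(T) ≤ N`
  have hNT : normalizer ((T : Subgroup S) : Set S) ≤ N := by
    intro g hg
    have h1 : V.map (MulAut.conj g).toMonoidHom = V := by
      apply hun
      refine ⟨?_, ?_, ?_⟩
      · rintro _ ⟨v, hv, rfl⟩
        exact (mem_normalizer_iff.1 hg v).1 (hVT hv)
      · refine ⟨⟨⟨?_⟩⟩, ?_⟩
        · rintro ⟨_, v, hv, rfl⟩ ⟨_, w, hw, rfl⟩
          have hcomm : v * w = w * v := by
            have := hV.1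
            exact congrArg Subtype.val (this.is_comm.comm (⟨v, hv⟩ : V) ⟨w, hw⟩)
          apply Subtype.ext
          show (MulAut.conj g).toMonoidHom v * (MulAut.conj g).toMonoidHom w =
            (MulAut.conj g).toMonoidHom w * (MulAut.conj g).toMonoidHom v
          rw [← map_mul, ← map_mul, hcomm]
        · rintro _ ⟨v, hv, rfl⟩
          rw [← map_pow, hV.2 v hv, map_one]
      · rw [H841.PiBS.card_map_conj, hVc]
    rw [hN, mem_normalizer_iff]
    intro v
    constructor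
    · intro hv
      have h2 : g * v * g⁻¹ ∈ V.map (MulAut.conj g).toMonoidHom := conj_mem_map hv
      rwa [h1] at h2
    · intro hv
      rw [← h1, mem_map_conj] at hv
      have e : g⁻¹ * (g * v * g⁻¹) * g = v := by group
      rwa [e] at hv
  have hTN : (T : Subgroup S) ≤ N := le_normalizer.trans hNT
  have hDT : DT π S := DT.of_dPi hD.isDPi h2
  have hDN : DT π ↥N := hDT.descend T hTN hNT
  have hVN : V ≤ N := le_normalizer
  have hVn : (V.subgroupOf N).Normal := by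
    rw [hN]; infer_instance
  have hVp : IsPGroup 2 ↥(V.subgroupOf N) := IsPGroup.of_card (n := 11) (by
    rw [Nat.card_congr (subgroupOfEquivOfLe hVN).toEquiv, hVc])
  have hVpi : IsPiSubgroup π (V.subgroupOf N) := mem_prime_of_pgroup h2 hVp
  have hDq := hDN.quot (V.subgroupOf N) hVpi
  -- the quotient is `M24`
  have hquo : Nonempty ((↥N ⧸ V.subgroupOf N) ≃* ↥Cfsg.M24) := by
    obtain ⟨e⟩ := hK
    have hcomp : IsComplement' (K.subgroupOf N) (V.subgroupOf N) := by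
      refine isComplement'_of_disjoint_and_mul_eq_univ ?_ ?_
      · rw [disjoint_iff]
        show (K ⊓ V).subgroupOf N = ⊥
        rw [hKV, bot_subgroupOf]
      · rw [← mul_normal, ← subgroupOf_sup hKN hVN, hKVN, subgroupOf_self]
        rfl
    exact ⟨(hcomp.QuotientMulEquiv).trans ((subgroupOfEquivOfLe hKN).trans e)⟩
  obtain ⟨e⟩ := hquo
  have h3 := h24 (hDq.map_equiv e)
  have hcN : Nat.card ↥N = 244823040 * 2 ^ 11 := by
    rw [card_eq_card_quotient_mul_card_subgroup (V.subgroupOf N), Nat.card_congr e.toEquiv, h24c,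
      Nat.card_congr (subgroupOfEquivOfLe hVN).toEquiv, hVc]
  have hNpi : IsPiSubgroup π N := by
    intro p hp hd
    rw [hcN, hp.dvd_mul] at hd
    rcases hd with hd | hd
    · exact h3 p hp (by rw [h24c]; exact hd)
    · rw [(Nat.prime_dvd_prime_iff_eq hp Nat.prime_two).1 (hp.dvd_of_dvd_pow hd)]
      exact h2
  obtain ⟨H, hH, hNH⟩ := hD.d N hNpi
  rcases hcoN.le_iff.1 hNH with h4 | h4
  · -- `H = ⊤`
    subst h4
    intro p hp hd
    exact hH.1 p hp (by rwa [card_top])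
  · exfalso
    subst h4
    refine hH.2 11 (by norm_num) (h3 11 (by norm_num) (by rw [h24c]; norm_num)) ?_
    have h5 := N.card_mul_index
    rw [hcN] at h5
    have h6 : 11 ^ 3 ∣ (244823040 * 2 ^ 11) * N.index := by rw [h5]; exact hcS
    have h7 : 11 * 11 ∣ (22256640 * 2 ^ 11) * N.index := by
      have h8 : 11 * (11 * 11) ∣ 11 * ((22256640 * 2 ^ 11) * N.index) := by
        convert h6 using 1 <;> ring
      exact Nat.dvd_of_mul_dvd_mul_left (by norm_num) h8
    exact (Nat.Coprime.dvd_of_dvd_mul_left (by norm_num) ((Dvd.intro _ rfl : 11 ∣ 11 * 11).trans h7))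

/-- **the row `J4`** from the row `M24` -/
theorem row_J4_of {S : Type u} [Group S] [Finite S] (h : Cfsg.Spor.IsoJ4 S) {π : Set ℕ} (h2 : 2 ∈ π)
    (h24 : DT π ↥Cfsg.M24 → PiGrp π ↥Cfsg.M24) (hD : DC π S) : PiGrp π S := by
  have hc := NotCT.Orders.j4 h
  have hs : IsSimpleGroup S := by
    obtain ⟨e⟩ := id h
    have := Cfsg.Agent.S1703.result.1
    exact e.isSimpleGroup
  refine jfour_model ?_ (H337.isOfJankoFourType_of_isoJ4 h) (by rw [hc]; norm_num) h2 h24 ?_ hD
  · intro hcm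
    let _ : CommGroup S := { (inferInstance : Group S) with mul_comm := fun a b => hcm.is_comm.comm a b }
    have h3 : (Nat.card S).Prime := IsSimpleGroup.prime_card
    rw [hc] at h3
    revert h3
    norm_num
  · exact NotCT.Orders.m24 ⟨MulEquiv.refl _⟩

/-- **the row `J4`** -/
theorem row_J4 {S : Type u} [Group S] [Finite S] (h : Cfsg.Spor.IsoJ4 S) {π : Set ℕ} (h2 : 2 ∈ π) (h3 : 3 ∈ π)
    (hD : DC π S) : PiGrp π S :=
  row_J4_of h h2 (fun hd p hp hpd => H841.PiBS.M24.good h2 h3 hd p hp hpd) hD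

end Cfsg.Agent.H171.PiBS
end

-- part: H861/PiS/CoThreeRow
section
/-!
# S3876: the Conway group `Co₃`, `2, 3 ∈ π` (helper861)

`C(z) = 2·Sp₆(2)` gives `5 ∈ π`; `M₂₃` has index `2³ 3⁵ 5²`.
-/

set_option autoImplicit false
set_option maxRecDepth 100000

namespace Cfsg.Agent.H861.PiS.CoThreeRow

open Cfsg Subgroup
open Cfsg.Agent.H841.PiBS Cfsg.Agent.H543.PiBS
open Cfsg.Agent.SporRec.TwoSp6.Model Cfsg.Agent.SporRec.TwoSp6.Order Cfsg.Agent.SporRec.Co3.Ident
  Cfsg.Agent.SporRec.Co3.Chain Cfsg.Agent.SporRec.Co3.Model Cfsg.Agent.KFacts.Co3.AutM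
  Cfsg.Agent.KFacts.Co3.Cent Cfsg.Agent.KFacts.Co3.Syl Cfsg.Agent.KFacts.Co3.Sheet
open Cfsg.Agent.SporadicA.Co0Mono

/-- the centralizer of a 2-central involution gives 5 -/
theorem five_mem {K : Type*} [Group K] [Finite K] (e : G3 ≃* K) {π : Set ℕ} (h2 : 2 ∈ π) (h3 : 3 ∈ π)
    (hd : DT π K) : 5 ∈ π := by
  obtain ⟨S, hzS, hcS, hcen⟩ := (facts e).basic.syl
  obtain ⟨π', -, hE⟩ := exists_pi
  have hzz := (facts e).basic.zz
  have hz1 := (facts e).basic.z1
  set z := e Z with hz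
  have hN : normalizer ((S : Subgroup K) : Set K) ≤ centralizer ({z} : Set K) := by
    intro g hg
    rw [mem_centralizer_singleton_iff]
    have hgi := inv_mem hg
    have h1 : g * z * g⁻¹ ∈ (S : Subgroup K) := (mem_normalizer_iff.1 hg z).1 hzS
    have h4 : ∀ x ∈ S, x * (g * z * g⁻¹) = g * z * g⁻¹ * x := by
      intro x hx
      have h5 : g⁻¹ * x * g ∈ (S : Subgroup K) := by
        have := (mem_normalizer_iff.1 hgi x).1 hx
        rwa [inv_inv] at this
      have h6 := hcS _ h5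
      calc x * (g * z * g⁻¹) = g * ((g⁻¹ * x * g) * z) * g⁻¹ := by group
        _ = g * (z * (g⁻¹ * x * g)) * g⁻¹ := by rw [h6]
        _ = g * z * g⁻¹ * x := by group
    rcases hcen _ h1 h4 with h5 | h5
    · exfalso
      apply hz1
      calc z = g⁻¹ * (g * z * g⁻¹) * g := by group
        _ = 1 := by rw [h5]; group
    · calc g * z = g * z * g⁻¹ * g := by group
        _ = z * g := by rw [h5]
  have hS : (S : Subgroup K) ≤ centralizer ({z} : Set K) := fun x hx =>
    mem_centralizer_singleton_iff.2 (hcS x hx)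
  have hd1 : DT π (centralizer ({z} : Set K)) := hd.descend S hS hN
  have hd2 : DT π M := hd1.map_equiv (eqv e).symm
  have hfM : Finite M := Nat.finite_of_card_ne_zero (by rw [card_M]; norm_num)
  have hd3 : DT π Cfsg.Agent.SporRec.TwoSp6.Sp.S := by
    refine hd2.of_surjective π' hE.surj ?_
    refine isPi_of_isPGroup h2 ?_
    intro x
    refine ⟨1, Subtype.ext ?_⟩
    show (x : M) ^ 2 ^ 1 = 1
    rcases hE.ker x x.2 with h4 | h4
    · rw [h4, one_pow]
    · rw [h4, pow_one, pow_two, hE.z_sq]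
  refine SpSix.good h2 h3 hd3 5 (by norm_num) ?_
  rw [SpSix.card]
  norm_num

/-- `M₂₃` in `M₂₄` -/
def inc (σ : Spor.M23) : M24 := ⟨σ.1, (Subgroup.mem_inf.1 σ.2).1⟩

theorem fix_none (σ : Spor.M23) : (σ : Equiv.Perm GolayPt) none = none := (Subgroup.mem_inf.1 σ.2).2

theorem smul_V (σ : Spor.M23) : permCo0 (inc σ) • Spor.leechV = Spor.leechV := by
  have h1 := permCo0_smul (inc σ) Spor.leechV
  apply Subtype.ext
  refine Eq.trans h1 ?_
  funext i
  rw [permMap_apply]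
  have h2 := fix_none σ
  have h3 : (σ : Equiv.Perm GolayPt).symm none = none := by
    rw [Equiv.symm_apply_eq, h2]
  show Spor.vecV ((σ : Equiv.Perm GolayPt).symm i) = Spor.vecV i
  unfold Spor.vecV
  by_cases hi : i = none
  · rw [hi, h3]
  · rw [if_neg hi, if_neg]
    intro h4
    apply hi
    rw [Equiv.symm_apply_eq, h2] at h4
    exact h4

/-- `M₂₃` in `Co₃` -/
noncomputable def phi : Spor.M23 →* Spor.Co3 where
  toFun σ := ⟨((permCo0 (inc σ) : Co0) : Equiv.Perm leechLattice),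
    Subgroup.mem_inf.2 ⟨(permCo0 (inc σ)).2, smul_V σ⟩⟩
  map_one' := by
    apply Subtype.ext
    have h1 : permCo0 (1 : M24) = 1 := map_one _
    exact congrArg (fun t : Co0 => (t : Equiv.Perm leechLattice)) h1
  map_mul' σ τ := by
    apply Subtype.ext
    have h1 := map_mul permCo0 (inc σ) (inc τ)
    exact congrArg (fun t : Co0 => (t : Equiv.Perm leechLattice)) h1

theorem phi_inj : Function.Injective phi := by
  intro σ τ h
  have h1 : ((permCo0 (inc σ) : Co0) : Equiv.Perm leechLattice) = permCo0 (inc τ) :=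
    congrArg (fun t : Spor.Co3 => (t : Equiv.Perm leechLattice)) h
  have h2 : inc σ = inc τ := Cfsg.Agent.CoOneType.Thirteen.permCo0_injective (Subtype.ext h1)
  have h3 : (inc σ : Equiv.Perm GolayPt) = inc τ := congrArg Subtype.val h2
  exact Subtype.ext h3

theorem card : Nat.card Spor.Co3 = 495766656000 := by
  rw [← Nat.card_congr equivCo3.toEquiv]
  exact isCo3_G3.2

theorem row_model {π : Set ℕ} (h2 : 2 ∈ π) (h3 : 3 ∈ π) (hD : DC π Spor.Co3) : PiGrp π Spor.Co3 := by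
  have hfin : Finite Spor.Co3 := Nat.finite_of_card_ne_zero (by rw [card]; norm_num)
  have h5 := five_mem equivCo3 h2 h3 (DT.of_dPi hD.isDPi h2)
  have hU : Nat.card phi.range = 10200960 := by
    rw [← Cfsg.Agent.SporadicA.MathieuRecog.card_M23]
    exact (Nat.card_congr (MonoidHom.ofInjective phi_inj).toEquiv).symm
  have hi : phi.range.index = 48600 := by
    have h4 := phi.range.card_mul_index
    rw [hU, card] at h4
    omega
  have hD1 : DC π phi.range := hD.descend phi.range fun p hp hd => by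
    rw [hi, show (48600 : ℕ) = 2 ^ 3 * 3 ^ 5 * 5 ^ 2 by norm_num] at hd
    rcases (Nat.Prime.dvd_mul hp).1 hd with h | h
    · rcases (Nat.Prime.dvd_mul hp).1 h with h | h
      · rw [(Nat.prime_dvd_prime_iff_eq hp Nat.prime_two).1 (hp.dvd_of_dvd_pow h)]; exact h2
      · rw [(Nat.prime_dvd_prime_iff_eq hp Nat.prime_three).1 (hp.dvd_of_dvd_pow h)]; exact h3
    · rw [(Nat.prime_dvd_prime_iff_eq hp (by norm_num)).1 (hp.dvd_of_dvd_pow h)]; exact h5
  have hD2 : DC π Spor.M23 := hD1.congr (MonoidHom.ofInjective phi_inj).symm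
  have hP : PG π Spor.M23 := M23.good23 h2 h3 (DT.of_dPi hD2.isDPi h2)
  have hc := Cfsg.Agent.SporadicA.MathieuRecog.card_M23
  intro p hp hd
  rw [card, show (495766656000 : ℕ) = 2 ^ 10 * 3 ^ 7 * 5 ^ 3 * (7 * 11 * 23) by norm_num] at hd
  rcases (Nat.Prime.dvd_mul hp).1 hd with h | h
  · rcases (Nat.Prime.dvd_mul hp).1 h with h | h
    · rcases (Nat.Prime.dvd_mul hp).1 h with h | h
      · rw [(Nat.prime_dvd_prime_iff_eq hp Nat.prime_two).1 (hp.dvd_of_dvd_pow h)]; exact h2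
      · rw [(Nat.prime_dvd_prime_iff_eq hp Nat.prime_three).1 (hp.dvd_of_dvd_pow h)]; exact h3
    · rw [(Nat.prime_dvd_prime_iff_eq hp (by norm_num)).1 (hp.dvd_of_dvd_pow h)]; exact h5
  · refine hP p hp (h.trans ?_)
    rw [hc]
    norm_num

theorem row_Co3 {S : Type*} [Group S] [Finite S] (h : Cfsg.Spor.IsoCo3 S) {π : Set ℕ} (h2 : 2 ∈ π) (h3 : 3 ∈ π)
    (hD : DC π S) : PiGrp π S := by
  obtain ⟨e⟩ := h
  intro p hp hd
  exact row_model h2 h3 (hD.congr e) p hp (by rwa [← Nat.card_congr e.toEquiv])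

end Cfsg.Agent.H861.PiS.CoThreeRow
end

-- part: H861/PiS/AltNine
section
/-!
# S3876: `Good π A₉` (helper861)
-/

set_option autoImplicit false

namespace Cfsg.Agent.H861.PiS.Nine

open Cfsg Subgroup
open Cfsg.Agent.H841.PiBS
open Cfsg.Agent.GH.Pc Cfsg.Agent.GH.Models.Proj

abbrev P9 := Equiv.Perm (Fin 9)
abbrev A9 := alternatingGroup (Fin 9)

/-- the polycyclic family of a Sylow 2-subgroup -/
def xp : Fin 6 → P9 := ![
  ⟨![4, 5, 6, 7, 0, 1, 2, 3, 8], ![4, 5, 6, 7, 0, 1, 2, 3, 8], by decide, by decide⟩,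
  ⟨![2, 3, 0, 1, 4, 5, 6, 7, 8], ![2, 3, 0, 1, 4, 5, 6, 7, 8], by decide, by decide⟩,
  ⟨![0, 1, 2, 3, 6, 7, 4, 5, 8], ![0, 1, 2, 3, 6, 7, 4, 5, 8], by decide, by decide⟩,
  ⟨![1, 0, 2, 3, 5, 4, 6, 7, 8], ![1, 0, 2, 3, 5, 4, 6, 7, 8], by decide, by decide⟩,
  ⟨![1, 0, 3, 2, 4, 5, 6, 7, 8], ![1, 0, 3, 2, 4, 5, 6, 7, 8], by decide, by decide⟩,
  ⟨![1, 0, 3, 2, 5, 4, 7, 6, 8], ![1, 0, 3, 2, 5, 4, 7, 6, 8], by decide, by decide⟩]

theorem xp_mem : ∀ i, xp i ∈ alternatingGroup (Fin 9) := by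
  intro i
  rw [Equiv.Perm.mem_alternatingGroup]
  revert i
  decide +kernel

def x (i : Fin 6) : A9 := ⟨xp i, xp_mem i⟩

def P : Pres 6 where
  sq _ := []
  cj i j := match i.val, j.val with
    | 0, 1 => [2]
    | 0, 2 => [1]
    | 0, 4 => [4, 5]
    | 1, 3 => [3, 4]
    | 2, 3 => [3, 4, 5]
    | _, _ => [j]

theorem P_ok : P.Ok := by decide +kernel

theorem satp : Sat P xp := by
  constructor
  · decide +kernel
  · decide +kernel

theorem sat : Sat P x :=
  Sat.of_injective (alternatingGroup (Fin 9)).subtype (subtype_injective _) satp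

theorem nfp : allB 6 (fun e => isZ e || !decide (nf xp e = 1)) = true := by decide +kernel

theorem cenp : allB 6 (fun e => decide (nf xp e = 1) || decide (nf xp e = xp 5) ||
    !decide (∀ i, xp i * nf xp e = nf xp e * xp i)) = true := by decide +kernel

theorem coe_nf (e : Fin 6 → Bool) : ((nf x e : A9) : P9) = nf xp e :=
  map_nf (alternatingGroup (Fin 9)).subtype x e

theorem nf_x (e : Fin 6 → Bool) (h : nf x e = 1) : e = fun _ => false :=
  nf_inj_of xp nfp e (by rw [← coe_nf, h]; rfl)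

theorem cen_x (e : Fin 6 → Bool) (h : ∀ i, x i * nf x e = nf x e * x i) (hne : nf x e ≠ 1) : nf x e = x 5 := by
  apply Subtype.ext
  rw [coe_nf]
  refine cen_of xp (xp 5) cenp e (fun i => ?_) fun h1 => hne (Subtype.ext (by rw [coe_nf]; exact h1))
  have := congrArg Subtype.val (h i)
  rw [← coe_nf]
  exact this

theorem card : Nat.card A9 = 181440 := by
  rw [nat_card_alternatingGroup, Nat.card_fin]
  decide

theorem not_dvd : ¬ 2 ^ (6 + 1) ∣ Nat.card A9 := by
  rw [card]; decide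

/-- the centralizer of the central involution has no elements of prime order `≥ 5` -/
theorem cent_five {p : ℕ} (hp : p.Prime) (h5 : 5 ≤ p) (g : A9) (hg : g ^ p = 1) (hc : g * x 5 = x 5 * g) : g = 1 := by
  apply Subtype.ext
  refine comm_five (xp 5) ?_ ?_ hp h5 (g : P9) (congrArg Subtype.val hg) (congrArg Subtype.val hc)
  · decide +kernel
  · decide +kernel

def w1 : P9 := ⟨![2, 3, 0, 1, 6, 7, 4, 5, 8], ![2, 3, 0, 1, 6, 7, 4, 5, 8], by decide, by decide⟩
def w2 : P9 := ⟨![2, 3, 0, 1, 7, 6, 5, 4, 8], ![2, 3, 0, 1, 7, 6, 5, 4, 8], by decide, by decide⟩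
/-- `(1 2 3)(5 6 7)` -/
def g1 : P9 := ⟨![0, 2, 3, 1, 4, 6, 7, 5, 8], ![0, 3, 1, 2, 4, 7, 5, 6, 8], by decide, by decide⟩
/-- `(1 2 3)(5 7 6)` -/
def g2 : P9 := ⟨![0, 2, 3, 1, 4, 7, 5, 6, 8], ![0, 3, 1, 2, 4, 6, 7, 5, 8], by decide, by decide⟩
/-- `(0 2 4)(1 3 5)` -/
def c3 : P9 := ⟨![2, 3, 4, 5, 0, 1, 6, 7, 8], ![4, 5, 0, 1, 2, 3, 6, 7, 8], by decide, by decide⟩

theorem w1_mem : w1 ∈ alternatingGroup (Fin 9) := by rw [Equiv.Perm.mem_alternatingGroup]; decide +kernel
theorem w2_mem : w2 ∈ alternatingGroup (Fin 9) := by rw [Equiv.Perm.mem_alternatingGroup]; decide +kernel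
theorem g1_mem : g1 ∈ alternatingGroup (Fin 9) := by rw [Equiv.Perm.mem_alternatingGroup]; decide +kernel
theorem g2_mem : g2 ∈ alternatingGroup (Fin 9) := by rw [Equiv.Perm.mem_alternatingGroup]; decide +kernel
theorem c3_mem : c3 ∈ alternatingGroup (Fin 9) := by rw [Equiv.Perm.mem_alternatingGroup]; decide +kernel

theorem norm_of (w g : A9) (h : (g : P9) * xp 5 = xp 5 * g ∨ (g : P9) * xp 5 = w * g ∨ (g : P9) * xp 5 = w * xp 5 * g)
    (h2 : (g : P9) * w = xp 5 * g ∨ (g : P9) * w = w * g ∨ (g : P9) * w = w * xp 5 * g)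
    (h3 : (g : P9) * (w * xp 5) = xp 5 * g ∨ (g : P9) * (w * xp 5) = w * g ∨ (g : P9) * (w * xp 5) = w * xp 5 * g) :
    g ∈ normalizer (VV (x 5) w) := by
  refine mem_norm_VV ?_ ?_ ?_
  · exact h.imp (fun h => Subtype.ext h) fun h => h.imp (fun h => Subtype.ext h) fun h => Subtype.ext h
  · exact h2.imp (fun h => Subtype.ext h) fun h => h.imp (fun h => Subtype.ext h) fun h => Subtype.ext h
  · exact h3.imp (fun h => Subtype.ext h) fun h => h.imp (fun h => Subtype.ext h) fun h => Subtype.ext h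

theorem chk1 : ∀ i : Fin 6, (xp i * xp 5 = xp 5 * xp i ∨ xp i * xp 5 = w1 * xp i ∨ xp i * xp 5 = w1 * xp 5 * xp i) ∧
    (xp i * w1 = xp 5 * xp i ∨ xp i * w1 = w1 * xp i ∨ xp i * w1 = w1 * xp 5 * xp i) ∧
    (xp i * (w1 * xp 5) = xp 5 * xp i ∨ xp i * (w1 * xp 5) = w1 * xp i ∨ xp i * (w1 * xp 5) = w1 * xp 5 * xp i) := by
  decide +kernel

theorem chk2 : ∀ i : Fin 6, (xp i * xp 5 = xp 5 * xp i ∨ xp i * xp 5 = w2 * xp i ∨ xp i * xp 5 = w2 * xp 5 * xp i) ∧
    (xp i * w2 = xp 5 * xp i ∨ xp i * w2 = w2 * xp i ∨ xp i * w2 = w2 * xp 5 * xp i) ∧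
    (xp i * (w2 * xp 5) = xp 5 * xp i ∨ xp i * (w2 * xp 5) = w2 * xp i ∨ xp i * (w2 * xp 5) = w2 * xp 5 * xp i) := by
  decide +kernel

/-- `A₉` is a `π`-group -/
theorem good {π : Set ℕ} (h2 : 2 ∈ π) (h3 : 3 ∈ π) : Good π A9 := by
  intro hd
  have hC : IsPiSubgroup π (centralizer ({x 5} : Set A9)) :=
    isPi_of_five h2 h3 fun p hp h5 g hg hgp => cent_five hp h5 g hgp (mem_centralizer_singleton_iff.1 hg)
  have hx1 : x 5 ≠ 1 := fun h => absurd (congrArg Subtype.val h) (by decide : xp 5 ≠ 1)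
  have hcz : ∀ i, x i * x 5 = x 5 * x i := fun i => Subtype.ext (by
    show xp i * xp 5 = xp 5 * xp i
    revert i
    decide +kernel)
  obtain ⟨H, hH, hU⟩ := exists_H P_ok sat nf_x not_dvd (fun w => w ≠ 1)
    (fun g w hw h => hw (by
      calc w = g⁻¹ * (g * w * g⁻¹) * g := by group
        _ = 1 := by rw [h]; group)) hx1 (subset_closure ⟨5, rfl⟩) hcz cen_x hC hd
  have hHC := hU _ hC fun i => mem_centralizer_singleton_iff.2 (hcz i)
  have hH1 := hU _ (isPi_normalizer h2 h3 (v := (⟨w1, w1_mem⟩ : A9)) hC) fun i =>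
    norm_of ⟨w1, w1_mem⟩ (x i) (chk1 i).1 (chk1 i).2.1 (chk1 i).2.2
  have hH2 := hU _ (isPi_normalizer h2 h3 (v := (⟨w2, w2_mem⟩ : A9)) hC) fun i =>
    norm_of ⟨w2, w2_mem⟩ (x i) (chk2 i).1 (chk2 i).2.1 (chk2 i).2.2
  have m1 : (⟨g1, g1_mem⟩ : A9) ∈ H := hH1 (norm_of ⟨w1, w1_mem⟩ ⟨g1, g1_mem⟩ (by decide) (by decide) (by decide))
  have m2 : (⟨g2, g2_mem⟩ : A9) ∈ H := hH2 (norm_of ⟨w2, w2_mem⟩ ⟨g2, g2_mem⟩ (by decide) (by decide) (by decide))
  have m3 : (⟨c3, c3_mem⟩ : A9) ∈ H := hHC (mem_centralizer_singleton_iff.2 (Subtype.ext (by decide : c3 * xp 5 = xp 5 * c3)))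
  have p5 : 5 ∈ π := by
    refine mem_pi_of hH.pi (by norm_num) (mul_mem (mul_mem (mul_mem m1 m2) m3) m3) (Subtype.ext ?_) fun h => ?_
    · exact (by decide +kernel : (g1 * g2 * c3 * c3) ^ 5 = 1)
    · exact absurd (congrArg Subtype.val h) (by decide : g1 * g2 * c3 * c3 ≠ 1)
  have p7 : 7 ∈ π := by
    refine mem_pi_of hH.pi (by norm_num) (mul_mem m1 m3) (Subtype.ext ?_) fun h => ?_
    · exact (by decide +kernel : (g1 * c3) ^ 7 = 1)
    · exact absurd (congrArg Subtype.val h) (by decide : g1 * c3 ≠ 1)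
  intro p hp hpd
  rw [card, show (181440 : ℕ) = 2 ^ 6 * 3 ^ 4 * 5 * 7 by norm_num] at hpd
  rcases (Nat.Prime.dvd_mul hp).1 hpd with h | h
  · rcases (Nat.Prime.dvd_mul hp).1 h with h | h
    · rcases (Nat.Prime.dvd_mul hp).1 h with h | h
      · rw [(Nat.prime_dvd_prime_iff_eq hp Nat.prime_two).1 (hp.dvd_of_dvd_pow h)]; exact h2
      · rw [(Nat.prime_dvd_prime_iff_eq hp Nat.prime_three).1 (hp.dvd_of_dvd_pow h)]; exact h3
    · rw [(Nat.prime_dvd_prime_iff_eq hp (by norm_num)).1 h]; exact p5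
  · rw [(Nat.prime_dvd_prime_iff_eq hp (by norm_num)).1 h]; exact p7

end Cfsg.Agent.H861.PiS.Nine
end

-- part: H861/PiS/ThRow
section
/-!
# S3876: the Thompson group, `2, 3 ∈ π` (helper861)

`C(z) = 2^{1+8}.A₉` is transitive on the noncentral involutions of its extraspecial subgroup.
-/

set_option autoImplicit false
set_option maxRecDepth 100000

namespace Cfsg.Agent.H861.PiS.ThRow

open Cfsg Subgroup
open Cfsg.Agent.H841.PiBS Cfsg.Agent.H543.PiBS
open Cfsg.Agent.Th.Base Cfsg.Agent.Th.Word Cfsg.Agent.Th.RelWords Cfsg.Agent.Th.PermTab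
  Cfsg.Agent.Th.KOracle Cfsg.Agent.Th.KPerm Cfsg.Agent.Th.NineAct Cfsg.Agent.Th.CStruct
  Cfsg.Agent.Th.COracleDef
open Cfsg.Agent.KFacts.Th.Mask Cfsg.Agent.KFacts.Th.Struct
open Cfsg.Agent.KFacts.Th

universe u

/-- the masks reached from the representatives -/
def reach : ℕ := bfs pm [[4], [5], [6], [8]] 512 [3, 504, 510, 45]
  (Nat.lor (Nat.lor (Nat.shiftLeft 1 3) (Nat.shiftLeft 1 504)) (Nat.lor (Nat.shiftLeft 1 510) (Nat.shiftLeft 1 45)))

theorem reach_check : allB 512 (fun m => or (Nat.beq m 0) (or (parK m) (bit reach m))) = true := by decide +kernel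

theorem pm_inv_check : allG (fun x => allB 512 fun m => Nat.beq (pm (invL x) (pm x m)) m) [4, 5, 6, 8] = true := by
  decide +kernel

section

variable {G : Type u} [Group G] {γ : ℕ → G} (h : Ctx γ)
include h

/-- the involutions with the mask `m` are conjugate to `γ 3` in `C(a)` -/
def Sg (γ : ℕ → G) (m : ℕ) : Prop :=
  m < 512 ∧ ∀ w ∈ Q0 γ, HM (γ 1) (cc γ) w m → w * w = 1 → ∃ c : G, c * γ 1 = γ 1 * c ∧ c * γ 3 * c⁻¹ = w

theorem sg_step {x : ℕ} (hx : x ∈ [4, 5, 6, 8]) {m : ℕ} (hm : Sg γ m) : Sg γ (pm x m) := by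
  have hx9 : x ∈ [4, 5, 6, 7, 8, 9] := by
    simp only [List.mem_cons, List.not_mem_nil, or_false] at hx ⊢
    (clear * - hx; tauto)
  refine ⟨pm_lt hx9 hm.1, fun w hw hwm hw2 => ?_⟩
  have hpm : pm (invL x) (pm x m) = m := by
    have := (allB_iff _ _).mp ((allG_iff _ _).mp pm_inv_check x hx) m hm.1
    exact Nat.eq_of_beq_eq_true this
  have h1 := h.mask_letter (invL_mem hx9) hwm
  rw [hpm, h.inv x, inv_inv] at h1
  have hxC := h.letter_mem hx9
  have h2 : γ x * w * (γ x)⁻¹ ∈ Q0 γ := by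
    have := h.Q_conj (inv_mem hxC) hw
    rwa [inv_inv] at this
  obtain ⟨c, hc, hcw⟩ := hm.2 _ h2 h1 (by
    calc γ x * w * (γ x)⁻¹ * (γ x * w * (γ x)⁻¹) = γ x * (w * w) * (γ x)⁻¹ := by group
      _ = 1 := by rw [hw2]; group)
  refine ⟨(γ x)⁻¹ * c, ?_, ?_⟩
  · exact h.mem_C.mp (mul_mem (inv_mem hxC) (h.mem_C.mpr hc))
  · calc (γ x)⁻¹ * c * γ 3 * ((γ x)⁻¹ * c)⁻¹ = (γ x)⁻¹ * (c * γ 3 * c⁻¹) * γ x := by group
      _ = w := by rw [hcw]; group

theorem com {i j : Fin 9} (hij : i ≠ j) : cc γ i * cc γ j = γ 1 * (cc γ j * cc γ i) := h.data.com i j hij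

theorem c2 (i : Fin 9) : cc γ i * cc γ i = 1 := cc_sq h.inv h.K i

theorem ac (i : Fin 9) : γ 1 * cc γ i = cc γ i * γ 1 := h.Q_comm (h.cc_mem i)

/-- vacuous masks -/
theorem sg_vac {y : G} (hy : y ∈ Q0 γ) {m : ℕ} (hm : HM (γ 1) (cc γ) y m) (hy2 : y * y = γ 1) : Sg γ m := by
  refine ⟨hm.1, fun w hw hwm hw2 => ?_⟩
  exfalso
  have hya := h.Q_comm hy
  rcases eq_of_mask h.data h.cardQ hy hw hm hwm with h1 | h1
  · rw [h1, hy2] at hw2
    exact h.a1 hw2
  · have h2 : w * w = γ 1 := by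
      calc w * w = y * (γ 1 * y) * γ 1 := by rw [h1]; group
        _ = y * y * (γ 1 * γ 1) := by rw [hya]; group
        _ = γ 1 := by rw [hy2, h.aa, mul_one]
    rw [h2] at hw2
    exact h.a1 hw2

/-- masks with an involution conjugate to `γ 3` -/
theorem sg_of {y : G} (hy : y ∈ Q0 γ) {m : ℕ} (hm : HM (γ 1) (cc γ) y m) {g : G} (hg : g ∈ sub γ isC)
    (hgy : g * γ 3 * g⁻¹ = y) {q : G} (hq : q ∈ Q0 γ) (hqy : q * y = γ 1 * (y * q)) : Sg γ m := by
  refine ⟨hm.1, fun w hw hwm hw2 => ?_⟩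
  rcases eq_of_mask h.data h.cardQ hy hw hm hwm with h1 | h1
  · exact ⟨g, h.mem_C.mp hg, by rw [hgy, h1]⟩
  · refine ⟨q * g, h.mem_C.mp (mul_mem (h.Q_le hq) hg), ?_⟩
    calc q * g * γ 3 * (q * g)⁻¹ = q * (g * γ 3 * g⁻¹) * q⁻¹ := by group
      _ = γ 1 * y := by rw [hgy, hqy]; group
      _ = w := by rw [h.Q_comm hy, h1]

theorem word_mem_C {w : List ℕ} (hw : allL isC w = true) : ev γ w ∈ sub γ isC :=
  ev_mem_sub ((allL_iff _ _).mp hw)

theorem start : Sg γ 3 ∧ Sg γ 504 ∧ Sg γ 510 ∧ Sg γ 45 := by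
  have D := h.data
  have m := fun i : Fin 9 => mask_c D i
  have q := h.cc_mem
  have e01 := com h (i := 0) (j := 1) (by decide)
  have e02 := com h (i := 0) (j := 2) (by decide)
  have e12 := com h (i := 1) (j := 2) (by decide)
  have e03 := com h (i := 0) (j := 3) (by decide)
  have e05 := com h (i := 0) (j := 5) (by decide)
  have aa := h.aa
  have a0 := ac h 0
  have a1 := ac h 1
  have a2 := ac h 2
  have a3 := ac h 3
  have a5 := ac h 5
  have s0 := c2 h 0
  have s1 := c2 h 1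
  have s2 := c2 h 2
  have hy01 : cc γ 0 * cc γ 1 * (cc γ 0 * cc γ 1) = γ 1 := by
    calc cc γ 0 * cc γ 1 * (cc γ 0 * cc γ 1) = γ 1 * (cc γ 1 * cc γ 0) * (cc γ 0 * cc γ 1) := by
          conv_lhs => rw [e01]
          rw [← e01]
      _ = γ 1 * cc γ 1 * (cc γ 0 * cc γ 0) * cc γ 1 := by group
      _ = γ 1 * (cc γ 1 * cc γ 1) := by rw [s0]; group
      _ = γ 1 := by rw [s1, mul_one]
  refine ⟨?_, ?_, ?_, ?_⟩
  · exact sg_vac h (mul_mem (q 0) (q 1)) (_root_.Cfsg.Agent.KFacts.Th.Mask.mul D (q 0) (m 0) (m 1)) hy01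
  · have hm := _root_.Cfsg.Agent.KFacts.Th.Mask.mul D (mul_mem (q 0) (q 1)) (_root_.Cfsg.Agent.KFacts.Th.Mask.mul D (q 0) (m 0) (m 1)) (m 2)
    refine sg_vac h (y := cc γ 0 * cc γ 1 * cc γ 2) (mul_mem (mul_mem (q 0) (q 1)) (q 2)) hm ?_
    have h3 : cc γ 2 * (cc γ 0 * cc γ 1) = cc γ 0 * cc γ 1 * cc γ 2 := by
      have e20 : cc γ 2 * cc γ 0 = γ 1 * (cc γ 0 * cc γ 2) := by
        rw [e02, ← mul_assoc, aa, one_mul]
      have e21 : cc γ 2 * cc γ 1 = γ 1 * (cc γ 1 * cc γ 2) := by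
        rw [e12, ← mul_assoc, aa, one_mul]
      calc cc γ 2 * (cc γ 0 * cc γ 1) = (cc γ 2 * cc γ 0) * cc γ 1 := by group
        _ = γ 1 * cc γ 0 * (cc γ 2 * cc γ 1) := by rw [e20]; group
        _ = γ 1 * (cc γ 0 * γ 1) * (cc γ 1 * cc γ 2) := by rw [e21]; group
        _ = γ 1 * (γ 1 * cc γ 0) * (cc γ 1 * cc γ 2) := by rw [a0]
        _ = (γ 1 * γ 1) * (cc γ 0 * cc γ 1 * cc γ 2) := by group
        _ = cc γ 0 * cc γ 1 * cc γ 2 := by rw [aa, one_mul]
    calc cc γ 0 * cc γ 1 * cc γ 2 * (cc γ 0 * cc γ 1 * cc γ 2) =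
          cc γ 0 * cc γ 1 * (cc γ 2 * (cc γ 0 * cc γ 1)) * cc γ 2 := by group
      _ = (cc γ 0 * cc γ 1 * (cc γ 0 * cc γ 1)) * (cc γ 2 * cc γ 2) := by rw [h3]; group
      _ = γ 1 := by rw [hy01, s2, mul_one]
  · refine sg_of h (y := cc γ 0) (q 0) (m 0) (g := 1) (one_mem _) ?_ (q 1) ?_
    · rw [← cc_zero (γ := γ)]; group
    · rw [e01, ← mul_assoc, aa, one_mul]
  · have hF : ev γ Fuse.wF = cc γ 0 * (cc γ 2 * (cc γ 3 * cc γ 5)) := by
      unfold Fuse.wF
      rw [ev_append, ev_append, ev_append]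
      rfl
    have hm := _root_.Cfsg.Agent.KFacts.Th.Mask.mul D (q 0) (m 0) (_root_.Cfsg.Agent.KFacts.Th.Mask.mul D (q 2) (m 2) (_root_.Cfsg.Agent.KFacts.Th.Mask.mul D (q 3) (m 3) (m 5)))
    have hqF : cc γ 0 * (cc γ 2 * (cc γ 3 * cc γ 5)) ∈ Q0 γ :=
      mul_mem (q 0) (mul_mem (q 2) (mul_mem (q 3) (q 5)))
    refine sg_of h (y := cc γ 0 * (cc γ 2 * (cc γ 3 * cc γ 5))) hqF hm
      (g := (ev γ (rw' 7) * γ 10)⁻¹) ?_ ?_ (q 0) ?_
    · refine inv_mem (mul_mem (word_mem_C h (by decide +kernel)) ?_)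
      exact Subgroup.subset_closure ⟨10, by decide, rfl⟩
    · have hU := Cfsg.Agent.Th.COracleSound.corc_sound h.inv h.C Fuse.checkU
      have h10 : γ 11 = (γ 10)⁻¹ := h.inv 10
      have h7 : cc γ 7 = (ev γ (rw' 7))⁻¹ * γ 3 * ev γ (rw' 7) := by
        unfold cc wc
        rw [ev_append, ev_iw h.inv, ev_cons]
        group
        rfl
      have hU' : (γ 10)⁻¹ * (cc γ 7 * (γ 10 * (ev γ Fuse.wF)⁻¹)) = 1 := by
        rw [ev_cons, ev_append, ev_cons, ev_iw h.inv, h10] at hU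
        exact hU
      calc (ev γ (rw' 7) * γ 10)⁻¹ * γ 3 * ((ev γ (rw' 7) * γ 10)⁻¹)⁻¹
          = (γ 10)⁻¹ * ((ev γ (rw' 7))⁻¹ * γ 3 * ev γ (rw' 7)) * γ 10 := by group
        _ = (γ 10)⁻¹ * cc γ 7 * γ 10 := by rw [← h7]
        _ = (γ 10)⁻¹ * (cc γ 7 * (γ 10 * (ev γ Fuse.wF)⁻¹)) * ev γ Fuse.wF := by group
        _ = ev γ Fuse.wF := by rw [hU', one_mul]
        _ = _ := hF
    · have e20 : cc γ 2 * cc γ 0 = γ 1 * (cc γ 0 * cc γ 2) := by
        rw [e02, ← mul_assoc, aa, one_mul]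
      have e30 : cc γ 3 * cc γ 0 = γ 1 * (cc γ 0 * cc γ 3) := by
        rw [e03, ← mul_assoc, aa, one_mul]
      have e50 : cc γ 5 * cc γ 0 = γ 1 * (cc γ 0 * cc γ 5) := by
        rw [e05, ← mul_assoc, aa, one_mul]
      have e1 : cc γ 0 * (cc γ 2 * (cc γ 3 * cc γ 5)) * cc γ 0 = γ 1 * (cc γ 0 * (cc γ 0 * (cc γ 2 * (cc γ 3 * cc γ 5)))) := by
        calc cc γ 0 * (cc γ 2 * (cc γ 3 * cc γ 5)) * cc γ 0
            = cc γ 0 * cc γ 2 * cc γ 3 * (cc γ 5 * cc γ 0) := by group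
          _ = cc γ 0 * cc γ 2 * (cc γ 3 * γ 1) * (cc γ 0 * cc γ 5) := by rw [e50]; group
          _ = cc γ 0 * cc γ 2 * γ 1 * (cc γ 3 * cc γ 0) * cc γ 5 := by rw [← a3]; group
          _ = cc γ 0 * cc γ 2 * (γ 1 * γ 1) * (cc γ 0 * cc γ 3) * cc γ 5 := by rw [e30]; group
          _ = cc γ 0 * (cc γ 2 * cc γ 0) * cc γ 3 * cc γ 5 := by rw [aa]; group
          _ = (cc γ 0 * γ 1) * (cc γ 0 * cc γ 2) * cc γ 3 * cc γ 5 := by rw [e20]; group
          _ = (γ 1 * cc γ 0) * (cc γ 0 * cc γ 2) * cc γ 3 * cc γ 5 := by rw [a0]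
          _ = _ := by group
      rw [e1, ← mul_assoc (γ 1) (γ 1), aa, one_mul]

theorem sg_all {m : ℕ} (hm : m < 512) (hp : par m = false) (h0 : m ≠ 0) : Sg γ m := by
  have hc := (allB_iff _ _).mp reach_check m hm
  have e1 : parK m = false := by
    have := (allB_iff _ _).mp parK_check m hm
    rw [eq_of_beqB this, hp]
  rw [e1] at hc
  have h1 : bit reach m = true := by
    simp only [Bool.or_eq_true, Bool.false_eq_true, false_or] at hc
    rcases hc with hc | hc
    · exact absurd (Nat.eq_of_beq_eq_true hc) h0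
    · exact hc
  have hst := start h
  have key := bfs_spec pm (Sg γ) [[4], [5], [6], [8]] (by
    intro g hg q hq
    simp only [List.mem_cons, List.not_mem_nil, or_false] at hg
    rcases hg with rfl | rfl | rfl | rfl
    · exact sg_step h (by simp) hq
    · exact sg_step h (by simp) hq
    · exact sg_step h (by simp) hq
    · exact sg_step h (by simp) hq) 512 [3, 504, 510, 45]
      (Nat.lor (Nat.lor (Nat.shiftLeft 1 3) (Nat.shiftLeft 1 504)) (Nat.lor (Nat.shiftLeft 1 510) (Nat.shiftLeft 1 45)))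
    (by
      intro q hq
      simp only [List.mem_cons, List.not_mem_nil, or_false] at hq
      rcases hq with rfl | rfl | rfl | rfl
      · exact hst.1
      · exact hst.2.1
      · exact hst.2.2.1
      · exact hst.2.2.2)
    (by
      intro q hq
      have h2 : (((1 <<< 3) ||| (1 <<< 504)) ||| ((1 <<< 510) ||| (1 <<< 45))).testBit q = true := hq
      simp only [Nat.testBit_or, Nat.one_shiftLeft, Nat.testBit_two_pow, Bool.or_eq_true, decide_eq_true_iff] at h2
      rcases h2 with (h2 | h2) | (h2 | h2)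
      · rw [← h2]; exact hst.1
      · rw [← h2]; exact hst.2.1
      · rw [← h2]; exact hst.2.2.1
      · rw [← h2]; exact hst.2.2.2)
  refine key m ?_
  rw [← bit_eq]
  exact h1

theorem good {π : Set ℕ} (h2 : 2 ∈ π) (h3 : 3 ∈ π) : Good π G := by
  have hfin := h.fin
  obtain ⟨f, D⟩ := Main.exists_data h
  have hcc0 : cc γ 0 = γ 3 := cc_zero
  have hn := Fuse.n_a h
  refine good_of_trans h2 h3 D.large D.surj (fun c hc => (D.ker c).1 hc) (Nine.good h2 h3) ?_ ?_ (n := Fuse.nn γ) ?_ ?_ ?_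
    (Fuse.gen h)
  · intro hd
    exact (Nat.not_even_iff_odd.2 D.odd) ((even_iff_two_dvd).2 hd)
  · rw [h.cardQ]; norm_num
  · rw [hn, ← hcc0]; exact h.cc_mem 0
  · rw [hn, ← hcc0]
    intro h1
    have h6 := mask_c h.data 0
    rw [h1] at h6
    exact absurd (unique h.data h6 (mask_a h.data)) (by decide +kernel)
  · intro w hw hw2 hw1 hwz
    rw [hn]
    obtain ⟨m, hm⟩ := exists_mask h.data hw
    refine (sg_all h hm.1 (par_eq h.data hw hm) ?_).2 w hw hm hw2
    rintro rfl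
    rcases eq_of_zero h.data h.cardQ hw hm with h4 | h4
    · exact hw1 h4
    · exact hwz h4

end

/-- `Good` gives the row -/
theorem row_of_good {S : Type*} [Group S] [Finite S] {π : Set ℕ} (hg : Good π S) (h2 : 2 ∈ π) (hD : DC π S) :
    PiGrp π S := hg (DT.of_dPi hD.isDPi h2)

theorem row_Th {S : Type*} [Group S] [Finite S] (h : Cfsg.Spor.IsoTh S) {π : Set ℕ} (h2 : 2 ∈ π) (h3 : 3 ∈ π)
    (hD : DC π S) : PiGrp π S := by
  obtain ⟨e⟩ := h
  have hfin := Main.finite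
  exact row_of_good (Good.congr e (good Main.ctx h2 h3)) h2 hD

end Cfsg.Agent.H861.PiS.ThRow
end

-- part: H841/PiBS/SporA
section
/-!
# S3876: the sporadic groups and the Tits group for `2, 3 ∈ π` (helper841)

`sporA`, `titsA` : `2, 3 ∈ π` and the Sylow theorem for `π` (`DC π S`) imply that `S` is a π-group.
-/

set_option autoImplicit false

namespace Cfsg.Agent.H841.PiBS

open Cfsg Subgroup
open Cfsg.Agent.H543.PiBS (DC PiGrp)

universe u

variable {π : Set ℕ} {S : Type u} [Group S] [Finite S]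

/-- **The 26 sporadic groups.** -/
theorem sporA [IsSimpleGroup S] (hs : IsSporadicGroup S) (h2 : 2 ∈ π) (h3 : 3 ∈ π) (hD : DC π S) : PiGrp π S := by
  rcases hs with h | h | h | h | h | h | h | h | h | h | h | h | h | h | h | h | h | h | h | h | h | h | h | h | h | h
  · exact H543.PiBS.row_M11 h h2 h3 hD
  · exact H543.PiBS.row_M12 h h2 h3 hD
  · exact Rows.good_m22 h2 h3 h hD
  · exact Rows.good_m23 h2 h3 h hD
  · exact Rows.good_m24 h2 h3 h hD
  · exact H543.PiBS.row_J1 h h2 h3 hD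
  · exact H982.PiJ.row_J2 h h2 h3 hD
  · exact H982.PiJ.row_J3 h h2 h3 hD
  · exact H171.PiBS.row_J4 h h2 h3 hD
  · exact H861.PiS.CoOneRow.row_Co1 h h2 h3 hD
  · exact H861.PiS.CoTwoRow.row_Co2 h h2 h3 hD
  · exact H861.PiS.CoThreeRow.row_Co3 h h2 h3 hD
  · exact H555.PiBS.McL.row_McL h h2 h3 hD
  · exact H555.PiBS.HS.row_HS h h2 h3 hD
  · exact H422.PiSuz.row_suz h h2 h3 hD
  · exact H173.PiBS.row_He h h2 h3 hD
  · exact H663.PiBSRu.row_ru h h2 h3 hD
  · exact H809.PiBS.row_ON h h2 h3 hD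
  · exact H861.PiS.LyRow.row_Ly h h2 h3 hD
  · exact Rows.good_fi22 h2 h3 (NotCT.Orders.fi22 h) h hD
  · exact Rows.good_fi23 h2 h3 h hD
  · exact Rows.good_fi24 h2 h3 h hD
  · exact HN.row_HN h h2 h3 hD
  · exact H861.PiS.ThRow.row_Th h h2 h3 hD
  · exact H861.PiS.BabyRow.row_B h h2 h3 hD
  · exact H861.PiS.CoOneRow.row_M h h2 h3 hD

/-- **The Tits group.** -/
theorem titsA (hs : Lie.IsoTits S) (h2 : 2 ∈ π) (h3 : 3 ∈ π) (hD : DC π S) : PiGrp π S :=
  H327.PB.row_Tits hs h2 h3 hD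

omit [Finite S] in
theorem index_le (h : (MulAut.conj : S →* MulAut S).range.index ∣ 2) :
    (MulAut.conj : S →* MulAut S).range.index ≤ 2 := Nat.le_of_dvd (by norm_num) h

/-- **The rows of the sporadic groups in S3876 for `2, 3 ∈ π`.** -/
theorem sporA_row [IsSimpleGroup S] (hs : IsSporadicGroup S) (h2 : 2 ∈ π) (h3 : 3 ∈ π) : H469.PiBS.Row π S :=
  Rows.row_of_dc (index_le (H783.PglSpor.index_spor hs)) h2 (sporA hs h2 h3)

/-- **The row of the Tits group in S3876 for `2, 3 ∈ π`.** -/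
theorem titsA_row (hs : Lie.IsoTits S) (h2 : 2 ∈ π) (h3 : 3 ∈ π) : H469.PiBS.Row π S :=
  Rows.row_of_dc (index_le (H783.PglSpor.index_tits hs)) h2 (titsA hs h2 h3)

end Cfsg.Agent.H841.PiBS
end

private theorem dce_f2ff5394cda9 : _root_.True := by
  try have : _root_.True := by simp only [_root_.Cfsg.Agent.H663.PiBSRu.wF.eq_1]
  try have : _root_.True := by simp only [_root_.Cfsg.Agent.Ru127.Form.cj.eq_1]
  exact _root_.True.intro
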